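import Groth.Agent.Ega43.FibCM
import Groth.Agent.Ega4B.CodepthOpen

/-!
# Depth and height near a prime, for finite modules over quotients of regular rings
-/

set_option autoImplicit false
universe u
open CategoryTheory

namespace K122.RectDepthRing

/-- Auslander–Buchsbaum plus openness of `pd ≤ n`, over a regular ring. -/
theorem regular_level {R : Type u} [CommRing R] [IsRegularRing R] (M : Type u) [AddCommGroup M]
    [Module R M] [Module.Finite R M] (P₀ : PrimeSpectrum R)
    [Nontrivial (LocalizedModule P₀.asIdeal.primeCompl M)] :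
    ∃ V : Set (PrimeSpectrum R), IsOpen V ∧ P₀ ∈ V ∧ ∃ d₀ h₀ : ℕ,
      LocCoh.depth (Localization.AtPrime P₀.asIdeal) (LocalizedModule P₀.asIdeal.primeCompl M) = d₀ ∧
      ringKrullDim (Localization.AtPrime P₀.asIdeal) = h₀ ∧
      ∀ P ∈ V, Nontrivial (LocalizedModule P.asIdeal.primeCompl M) → ∃ d h : ℕ,
        LocCoh.depth (Localization.AtPrime P.asIdeal) (LocalizedModule P.asIdeal.primeCompl M) = d ∧
        ringKrullDim (Localization.AtPrime P.asIdeal) = h ∧
        d₀ + h ≤ h₀ + d ∧ (P₀ ≤ P → d₀ + h = h₀ + d) := by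
  have hreg : ∀ P : PrimeSpectrum R, IsRegularLocalRing (Localization.AtPrime P.asIdeal) :=
    fun P => (isRegularRing_iff.mp inferInstance) P.asIdeal
  have key : ∀ P : PrimeSpectrum R, Nontrivial (LocalizedModule P.asIdeal.primeCompl M) →
      ∃ e d h : ℕ, (∀ n : ℕ, projectiveDimension (ModuleCat.of (Localization.AtPrime P.asIdeal)
        (LocalizedModule P.asIdeal.primeCompl M)) ≤ n ↔ e ≤ n) ∧
      LocCoh.depth (Localization.AtPrime P.asIdeal) (LocalizedModule P.asIdeal.primeCompl M) = d ∧
      ringKrullDim (Localization.AtPrime P.asIdeal) = h ∧ e + d = h := by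
    intro P hP
    have := hreg P
    obtain ⟨e, d, h, h1, h2, h3, h4⟩ := Groth.Agent.Ega43.FibCM.exists_data
      (B := Localization.AtPrime P.asIdeal) (LocalizedModule P.asIdeal.primeCompl M)
    refine ⟨e, d, h, fun n => ?_, h2, h3, h4⟩
    rw [← h1 n]
    exact projectiveDimension_le_iff _ _
  obtain ⟨e₀, d₀, h₀, he₀, hd₀, hh₀, hsum₀⟩ := key P₀ inferInstance
  have hopen : ∀ n : ℕ, IsOpen {P : PrimeSpectrum R | projectiveDimension
        (ModuleCat.of (Localization.AtPrime P.asIdeal)
          (LocalizedModule P.asIdeal.primeCompl M)) ≤ n} := fun n => Groth.Agent.S2677.result R M n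
  refine ⟨_, hopen e₀, (he₀ e₀).mpr le_rfl, d₀, h₀, hd₀, hh₀, ?_⟩
  intro P hP hne
  obtain ⟨e, d, h, he, hd, hh, hsum⟩ := key P hne
  refine ⟨d, h, hd, hh, ?_, ?_⟩
  · have h1 : e ≤ e₀ := (he e₀).mp hP
    omega
  · intro hle
    have h1 : e ≤ e₀ := (he e₀).mp hP
    have h2 : P₀ ⤳ P := (PrimeSpectrum.le_iff_specializes P₀ P).mp hle
    have h3 : P ∈ {P : PrimeSpectrum R | projectiveDimension
        (ModuleCat.of (Localization.AtPrime P.asIdeal)
          (LocalizedModule P.asIdeal.primeCompl M)) ≤ e} := (he e).mpr le_rfl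
    have h4 := h2.mem_open (hopen e) h3
    have h5 : e₀ ≤ e := (he₀ e).mp h4
    omega

/-- The same over a quotient of a regular ring. -/
theorem quotient_level {R A : Type u} [CommRing R] [IsRegularRing R] [CommRing A] [Algebra R A]
    (hs : Function.Surjective (algebraMap R A)) (M : Type u) [AddCommGroup M]
    [Module A M] [Module.Finite A M] (p₀ : PrimeSpectrum A)
    [Nontrivial (LocalizedModule p₀.asIdeal.primeCompl M)] :
    ∃ V : Set (PrimeSpectrum A), IsOpen V ∧ p₀ ∈ V ∧ ∃ d₀ h₀ : ℕ,
      LocCoh.depth (Localization.AtPrime p₀.asIdeal) (LocalizedModule p₀.asIdeal.primeCompl M) = d₀ ∧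
      ringKrullDim (Localization.AtPrime (PrimeSpectrum.comap (algebraMap R A) p₀).asIdeal) = h₀ ∧
      ∀ p ∈ V, Nontrivial (LocalizedModule p.asIdeal.primeCompl M) → ∃ d h : ℕ,
        LocCoh.depth (Localization.AtPrime p.asIdeal) (LocalizedModule p.asIdeal.primeCompl M) = d ∧
        ringKrullDim (Localization.AtPrime (PrimeSpectrum.comap (algebraMap R A) p).asIdeal) = h ∧
        d₀ + h ≤ h₀ + d ∧ (p₀ ≤ p → d₀ + h = h₀ + d) := by
  let _ : Module R M := Module.compHom M (algebraMap R A)
  have : IsScalarTower R A M := ⟨fun r a m ↦ by rw [Algebra.smul_def, mul_smul]; rfl⟩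
  have hA : Module.Finite R A := Module.Finite.of_surjective (Algebra.linearMap R A) hs
  have : Module.Finite R M := Module.Finite.trans A M
  have hnt : ∀ p : PrimeSpectrum A, Nontrivial (LocalizedModule p.asIdeal.primeCompl M) ↔
      Nontrivial (LocalizedModule (PrimeSpectrum.comap (algebraMap R A) p).asIdeal.primeCompl M) := by
    intro p
    have h1 : p ∈ Module.support A M ↔ PrimeSpectrum.comap (algebraMap R A) p ∈ Module.support R M := by
      rw [Module.mem_support_iff', Module.mem_support_iff']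
      constructor
      · rintro ⟨m, hm⟩
        refine ⟨m, fun r hr => ?_⟩
        have := hm (algebraMap R A r) hr
        rwa [algebraMap_smul] at this
      · rintro ⟨m, hm⟩
        refine ⟨m, fun a ha => ?_⟩
        obtain ⟨r, rfl⟩ := hs a
        rw [algebraMap_smul]
        exact hm r ha
    exact h1
  have : Nontrivial (LocalizedModule
      (PrimeSpectrum.comap (algebraMap R A) p₀).asIdeal.primeCompl M) := (hnt p₀).mp inferInstance
  obtain ⟨V, hV, hpV, d₀, h₀, hd₀, hh₀, H⟩ := regular_level M (PrimeSpectrum.comap (algebraMap R A) p₀)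
  have hdep : ∀ p : PrimeSpectrum A,
      LocCoh.depth (Localization.AtPrime p.asIdeal) (LocalizedModule p.asIdeal.primeCompl M) =
        LocCoh.depth (Localization.AtPrime (PrimeSpectrum.comap (algebraMap R A) p).asIdeal)
          (LocalizedModule (PrimeSpectrum.comap (algebraMap R A) p).asIdeal.primeCompl M) := fun p =>
    Groth.Agent.Ega4B.LocTransfer.depth_eq_of_surjective (R := R) hs p.asIdeal
  refine ⟨PrimeSpectrum.comap (algebraMap R A) ⁻¹' V,
    hV.preimage (PrimeSpectrum.continuous_comap (algebraMap R A)), hpV, d₀, h₀, ?_, hh₀, ?_⟩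
  · rw [hdep, hd₀]
  · intro p hp hne
    obtain ⟨d, h, hd, hh, hle, heq⟩ := H _ hp ((hnt p).mp hne)
    refine ⟨d, h, ?_, hh, hle, fun hle' => heq ?_⟩
    · rw [hdep, hd]
    · exact Ideal.comap_mono hle'

end K122.RectDepthRing
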