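import Groth.Agent.EGA43.K122.HeightConst
import Groth.Agent.EGA43.K122.RectDepthRing
import Groth.Agent.Sga7.H732.Reg
import Groth.Agent.Etbc.H208.PidCat
import Groth.Agent.Divis.StalkMod
import Groth.Agent.Ega4dB.DepthOpen
import Groth.Agent.S0020

/-!
# The rectified depth `prof_x(F) + dim cl{x}` over a regular base
-/

set_option autoImplicit false
universe u
open CategoryTheory AlgebraicGeometry TopologicalSpace Topology

namespace K122.RectDepth

open K122.HeightConst K122.RectDepthRing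

theorem stalk_regular {R : CommRingCat.{u}} [IsRegularRing R] (x : Spec R) :
    IsRegularLocalRing ((Spec R).presheaf.stalk x) := by
  have : IsRegularLocalRing (Localization.AtPrime x.asIdeal) :=
    (isRegularRing_iff.mp inferInstance) x.asIdeal
  exact IsRegularLocalRing.of_ringEquiv (Spec.stalkIso R x).symm.commRingCatIsoToRingEquiv

theorem ringKrullDim_stalk {R : CommRingCat.{u}} (x : Spec R) :
    ringKrullDim ((Spec R).presheaf.stalk x) = ringKrullDim (Localization.AtPrime x.asIdeal) :=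
  ringKrullDim_eq_of_ringEquiv (Spec.stalkIso R x).commRingCatIsoToRingEquiv

/-- depth and nontriviality of a stalk of a quasi-coherent module, in terms of the sections over an affine
open -/
theorem stalk_eq {X : Scheme.{u}} (F : X.Modules) (hF : Coh.IsQCoh F) {U : X.Opens}
    (hU : IsAffineOpen U) (x : X) (hx : x ∈ U) :
    LocCoh.depth (X.presheaf.stalk x) (F.presheaf.stalk x) =
        LocCoh.depth (Localization.AtPrime (hU.primeIdealOf ⟨x, hx⟩).asIdeal)
          (LocalizedModule (hU.primeIdealOf ⟨x, hx⟩).asIdeal.primeCompl Γ(F, U)) ∧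
      (Nontrivial (F.presheaf.stalk x) ↔
        Nontrivial (LocalizedModule (hU.primeIdealOf ⟨x, hx⟩).asIdeal.primeCompl Γ(F, U))) := by
  refine Groth.Agent.Divis.StalkMod.stalk_elim F hF hU x hx ?_
  intro _ _ _ _ l _ _ _
  refine ⟨Groth.Agent.Ega4dB.DepthOpen.depth_eq_of_isLocalizedModule
    (hU.primeIdealOf ⟨x, hx⟩).asIdeal Γ(F, U) (X.presheaf.stalk x) l, ?_⟩
  exact (IsLocalizedModule.iso (hU.primeIdealOf ⟨x, hx⟩).asIdeal.primeCompl l).symm.toEquiv.nontrivial_congr

theorem key {X S : Scheme.{u}} [IsLocallyNoetherian S] [JacobsonSpace S]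
    (hreg : ∀ s : S, IsRegularLocalRing ↑(S.presheaf.stalk s))
    (h3 : ∀ S' ∈ irreducibleComponents (S : Type u), ∀ s ∈ S', IsClosed ({s} : Set S) →
      topologicalKrullDim (↥S' : Type u) = topologicalKrullDim ↥{t : S | t ∈ S' ∧ t ⤳ s})
    (g : X ⟶ S) [LocallyOfFiniteType g] (F : X.Modules) (hF : Coh.IsCoh F) (x₀ : X)
    (hx₀ : Nontrivial (F.presheaf.stalk x₀)) :
    ∃ (W : Set X) (d₀ δ₀ : ℕ), IsOpen W ∧ x₀ ∈ W ∧
      LocCoh.depth ↑(X.presheaf.stalk x₀) ↑(F.presheaf.stalk x₀) = d₀ ∧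
      topologicalKrullDim ↥(closure ({x₀} : Set X)) = δ₀ ∧
      ∀ x ∈ W, Nontrivial (F.presheaf.stalk x) → ∃ d δ : ℕ,
        LocCoh.depth ↑(X.presheaf.stalk x) ↑(F.presheaf.stalk x) = d ∧
        topologicalKrullDim ↥(closure ({x} : Set X)) = δ ∧
        d₀ + δ₀ ≤ d + δ ∧ (x₀ ⤳ x → d₀ + δ₀ = d + δ) := by
  have h2 : ∀ s : S, CAlg.IsUniversallyCatenary (S.presheaf.stalk s) := fun s =>
    have := hreg s
    Groth.Agent.Etbc.H208.PidCat.isUniversallyCatenary_of_isRegularLocalRing _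
  have hXN : IsLocallyNoetherian X := LocallyOfFiniteType.isLocallyNoetherian g
  obtain ⟨V, U, hV, hU, hUV, hxU⟩ := Groth.Agent.CycB.RelDim.exists_affine_nhds g x₀
  have hNV : IsNoetherianRing Γ(S, V) := IsLocallyNoetherian.component_noetherian ⟨V, hV⟩
  have hRV : IsRegularRing Γ(S, V) :=
    Groth.Agent.Sga7.H732.Reg.ring_of_stalkRegular hV (fun s _ => hreg s)
  have hNU : IsNoetherianRing Γ(X, U) := IsLocallyNoetherian.component_noetherian ⟨U, hU⟩
  let _ : Algebra Γ(S, V) Γ(X, U) := (g.appLE V U hUV).hom.toAlgebra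
  have hft : Algebra.FiniteType Γ(S, V) Γ(X, U) :=
    LocallyOfFiniteType.finiteType_appLE g hV hU hUV
  obtain ⟨n, π, hπ⟩ := Algebra.FiniteType.iff_quotient_mvPolynomial''.mp hft
  let R : CommRingCat.{u} := CommRingCat.of (MvPolynomial (Fin n) Γ(S, V))
  have hR : IsRegularRing R := MvPolynomial.isRegularRing_of_isRegularRing _
  let _ : Algebra R Γ(X, U) := π.toRingHom.toAlgebra
  have hs : Function.Surjective (algebraMap R Γ(X, U)) := hπ
  have hMfin : Module.Finite Γ(X, U) Γ(F, U) := Groth.Agent.Divis.StalkMod.finite_sections hF hU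
  -- the schemes
  let q : Spec R ⟶ S := Spec.map (CommRingCat.ofHom (algebraMap Γ(S, V) (MvPolynomial (Fin n) Γ(S, V))))
    ≫ hV.fromSpec
  have hq0 : LocallyOfFiniteType (Spec.map
      (CommRingCat.ofHom (algebraMap Γ(S, V) (MvPolynomial (Fin n) Γ(S, V))))) := by
    rw [HasRingHomProperty.Spec_iff (P := @LocallyOfFiniteType)]
    exact RingHom.finiteType_algebraMap.mpr inferInstance
  have hq : LocallyOfFiniteType q := inferInstance
  let i : Spec Γ(X, U) ⟶ Spec R := Spec.map (CommRingCat.ofHom (algebraMap R Γ(X, U)))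
  have hi : IsClosedImmersion i := IsClosedImmersion.spec_of_surjective _ hs
  let j : Spec Γ(X, U) ⟶ X := hU.fromSpec
  have hjr : Set.range j = (U : Set X) := hU.range_fromSpec
  have hdom : ∀ P : Spec R, IsDomain ((Spec R).presheaf.stalk P) := fun P =>
    have := stalk_regular (R := R) P
    Groth.Agent.CalgA.RegBasic.isDomain _
  -- dimension of closures
  have hcl : ∀ p : Spec Γ(X, U), topologicalKrullDim ↥(closure ({j p} : Set X)) =
      topologicalKrullDim ↥(closure ({i p} : Set (Spec R))) := fun p => by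
    rw [dim_closure_openImmersion h2 h3 g j p, dim_closure_closedImmersion i p]
  obtain ⟨p₀, hp₀⟩ : x₀ ∈ Set.range j := by rw [hjr]; exact hxU
  have hprime : ∀ (p : Spec Γ(X, U)) (hp : j p ∈ U), hU.primeIdealOf ⟨j p, hp⟩ = p := by
    intro p hp
    apply hU.fromSpec.isOpenEmbedding.injective
    exact hU.fromSpec_primeIdealOf ⟨j p, hp⟩
  have hmem : ∀ p : Spec Γ(X, U), j p ∈ U := fun p => by
    have : j p ∈ Set.range j := ⟨p, rfl⟩
    rw [hjr] at this
    exact this
  have hstalk : ∀ p : Spec Γ(X, U),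
      LocCoh.depth (X.presheaf.stalk (j p)) (F.presheaf.stalk (j p)) =
        LocCoh.depth (Localization.AtPrime p.asIdeal) (LocalizedModule p.asIdeal.primeCompl Γ(F, U)) ∧
      (Nontrivial (F.presheaf.stalk (j p)) ↔
        Nontrivial (LocalizedModule p.asIdeal.primeCompl Γ(F, U))) := by
    intro p
    have := stalk_eq F hF.1 hU (j p) (hmem p)
    rw [hprime p (hmem p)] at this
    exact this
  subst hp₀
  have hnt : Nontrivial (LocalizedModule p₀.asIdeal.primeCompl Γ(F, U)) := (hstalk p₀).2.mp hx₀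
  obtain ⟨V₁, hV₁, hpV₁, d₀, h₀, hd₀, hh₀, H⟩ := quotient_level (R := R) hs Γ(F, U) p₀
  obtain ⟨V₂, D, hV₂, hpV₂, HD⟩ := const_near h2 h3 q (i p₀)
  obtain ⟨δ₀, hδ₀⟩ := exists_dim_closure h2 h3 g (j p₀)
  -- the height relation
  have hrel : ∀ p : Spec Γ(X, U), i p ∈ V₂ → ∀ h : ℕ,
      ringKrullDim (Localization.AtPrime (PrimeSpectrum.comap (algebraMap R Γ(X, U)) p).asIdeal) = h →
      ∀ δ : ℕ, topologicalKrullDim ↥(closure ({j p} : Set X)) = δ → δ + h = D := by
    intro p hp h hh δ hδ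
    have e1 := HD (i p) hp
    rw [← hcl p, hδ, ringKrullDim_stalk] at e1
    have e2 : ringKrullDim (Localization.AtPrime (i p).asIdeal) = h := hh
    rw [e2] at e1
    exact_mod_cast e1
  refine ⟨j '' (V₁ ∩ i ⁻¹' V₂), d₀, δ₀, ?_, ⟨p₀, ⟨hpV₁, hpV₂⟩, rfl⟩, ?_, hδ₀, ?_⟩
  · exact j.isOpenEmbedding.isOpenMap _ (hV₁.inter (hV₂.preimage i.continuous))
  · rw [(hstalk p₀).1, hd₀]
  · rintro _ ⟨p, ⟨hp1, hp2⟩, rfl⟩ hne
    obtain ⟨d, h, hd, hh, hle, heq⟩ := H p hp1 ((hstalk p).2.mp hne)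
    obtain ⟨δ, hδ⟩ := exists_dim_closure h2 h3 g (j p)
    have e1 := hrel p₀ hpV₂ h₀ hh₀ δ₀ hδ₀
    have e2 := hrel p hp2 h hh δ hδ
    refine ⟨d, δ, ?_, hδ, by omega, fun hsp => ?_⟩
    · rw [(hstalk p).1, hd]
    · have hle' : (show PrimeSpectrum Γ(X, U) from p₀) ≤ p := by
        rw [PrimeSpectrum.le_iff_specializes]
        exact j.isOpenEmbedding.isInducing.specializes_iff.mp hsp
      have := heq hle'
      omega

end K122.RectDepth
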