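import Groth.Agent.TopDim.K284.Basic
import Mathlib.Topology.Sober
import Mathlib.Topology.NoetherianSpace

/-!
# Dimensions of locally closed subsets in terms of dimensions of closures of points
-/

set_option autoImplicit false
open TopologicalSpace Topology Set
open K284.TopDim

namespace K122.TopDelta

variable {T : Type*} [TopologicalSpace T]

/-- the generic point of an irreducible subset -/
theorem exists_generic [QuasiSober T] {Z : Set T} (hZ : IsIrreducible Z) :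
    ∃ g : T, (∀ z ∈ Z, g ⤳ z) ∧ closure ({g} : Set T) = closure Z := by
  obtain ⟨g, hg⟩ := QuasiSober.sober hZ.closure isClosed_closure
  refine ⟨g, fun z hz => ?_, hg.def⟩
  rw [specializes_iff_mem_closure, hg.def]
  exact subset_closure hz

/-- The dimension of a subset which contains the generic points of its irreducible subsets. -/
theorem dim_eq_iSup [QuasiSober T] (W : Set T)
    (hW : ∀ Z ⊆ W, IsIrreducible Z → ∀ g : T, (∀ z ∈ Z, g ⤳ z) → closure ({g} : Set T) = closure Z →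
      g ∈ W) :
    topologicalKrullDim ↥W = ⨆ x : ↥W, topologicalKrullDim ↥(W ∩ closure ({(x : T)} : Set T)) := by
  rw [dim_eq_iSup_of_forall_irreducible (X := ↥W)
    (fun x : ↥W => (Subtype.val ⁻¹' closure ({(x : T)} : Set T) : Set ↥W))]
  · refine iSup_congr fun x => ?_
    rw [dim_preimage_val, inter_comm]
  · intro Z hZ
    have hZ' : IsIrreducible (Subtype.val '' Z : Set T) :=
      hZ.image _ continuous_subtype_val.continuousOn
    obtain ⟨g, hg, hg'⟩ := exists_generic hZ'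
    have hgW : g ∈ W := by
      refine hW (Subtype.val '' Z) ?_ hZ' g hg hg'
      rintro _ ⟨z, -, rfl⟩
      exact z.2
    refine ⟨⟨g, hgW⟩, fun z hz => ?_⟩
    rw [mem_preimage, ← specializes_iff_mem_closure]
    exact hg _ ⟨z, hz, rfl⟩

/-- dimension of `U ∩ Y` with `U` open and `Y` closed -/
theorem dim_open_inter_closed [QuasiSober T] {U Y : Set T} (hU : IsOpen U) (hY : IsClosed Y) :
    topologicalKrullDim ↥(U ∩ Y) =
      ⨆ x : ↥(U ∩ Y), topologicalKrullDim ↥(U ∩ closure ({(x : T)} : Set T)) := by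
  rw [dim_eq_iSup (U ∩ Y)]
  · refine iSup_congr fun x => ?_
    have : (U ∩ Y) ∩ closure ({(x : T)} : Set T) = U ∩ closure ({(x : T)} : Set T) := by
      rw [inter_assoc, inter_eq_right.mpr (closure_minimal (singleton_subset_iff.mpr x.2.2) hY)]
    rw [this]
  · intro Z hZW hZ g hg hg'
    obtain ⟨z, hz⟩ := hZ.nonempty
    refine ⟨(hg z hz).mem_open hU (hZW hz).1, ?_⟩
    have : g ∈ closure Z := by rw [← hg']; exact subset_closure rfl
    exact closure_minimal (fun z hz => (hZW hz).2) hY this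

/-- dimension of the set of generizations of `x` inside the closed set `Y` -/
theorem dim_generizations [QuasiSober T] {Y : Set T} (hY : IsClosed Y) (x : T) :
    topologicalKrullDim ↥{t : T | t ∈ Y ∧ t ⤳ x} =
      ⨆ t : ↥{t : T | t ∈ Y ∧ t ⤳ x}, topologicalKrullDim ↥{z : T | (t : T) ⤳ z ∧ z ⤳ x} := by
  rw [dim_eq_iSup {t : T | t ∈ Y ∧ t ⤳ x}]
  · refine iSup_congr fun t => ?_
    have : {t : T | t ∈ Y ∧ t ⤳ x} ∩ closure ({(t : T)} : Set T) = {z : T | (t : T) ⤳ z ∧ z ⤳ x} := by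
      ext z
      constructor
      · rintro ⟨⟨-, hzx⟩, hz⟩
        exact ⟨specializes_iff_mem_closure.mpr hz, hzx⟩
      · rintro ⟨htz, hzx⟩
        exact ⟨⟨htz.mem_closed hY t.2.1, hzx⟩, specializes_iff_mem_closure.mp htz⟩
    rw [this]
  · intro Z hZW hZ g hg hg'
    obtain ⟨z, hz⟩ := hZ.nonempty
    refine ⟨?_, (hg z hz).trans (hZW hz).2⟩
    have : g ∈ closure Z := by rw [← hg']; exact subset_closure rfl
    exact closure_minimal (fun z hz => (hZW hz).1) hY this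

/-- In a locally Noetherian space, a point of a closed set has a neighbourhood which only meets the
irreducible components through the point. -/
theorem exists_nhd [QuasiSober T] (hN : ∀ x : T, ∃ V : Set T, IsOpen V ∧ x ∈ V ∧ NoetherianSpace ↥V)
    {Y : Set T} (hY : IsClosed Y) (x : T) :
    ∃ V : Set T, IsOpen V ∧ x ∈ V ∧ ∀ y ∈ V ∩ Y, ∃ c ∈ Y, c ⤳ y ∧ c ⤳ x := by
  obtain ⟨V₀, hV₀, hxV₀, hNV₀⟩ := hN x
  obtain ⟨F, hF, hFc, hFi, hYF⟩ := NoetherianSpace.exists_finite_set_isClosed_irreducible (α := ↥V₀)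
    (s := Subtype.val ⁻¹' Y) (hY.preimage continuous_subtype_val)
  let B : Set ↥V₀ := ⋃₀ {Z ∈ F | (⟨x, hxV₀⟩ : ↥V₀) ∉ Z}
  have hB : IsClosed B := by
    change IsClosed (⋃₀ {Z ∈ F | (⟨x, hxV₀⟩ : ↥V₀) ∉ Z})
    rw [sUnion_eq_biUnion]
    exact (hF.subset (sep_subset _ _)).isClosed_biUnion fun Z hZ => hFc Z hZ.1
  refine ⟨Subtype.val '' Bᶜ, hV₀.isOpenMap_subtype_val _ hB.isOpen_compl, ?_, ?_⟩
  · refine ⟨⟨x, hxV₀⟩, ?_, rfl⟩
    rintro ⟨Z, ⟨hZF, hxZ⟩, hx⟩
    exact hxZ hx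
  · rintro _ ⟨⟨y, hyB, rfl⟩, hyY⟩
    have hy : y ∈ ⋃₀ F := by rw [← hYF]; exact hyY
    obtain ⟨Z, hZF, hyZ⟩ := hy
    have hxZ : (⟨x, hxV₀⟩ : ↥V₀) ∈ Z := by
      by_contra hcon
      exact hyB ⟨Z, ⟨hZF, hcon⟩, hyZ⟩
    have hZ' : IsIrreducible (Subtype.val '' Z : Set T) :=
      (hFi Z hZF).image _ continuous_subtype_val.continuousOn
    obtain ⟨c, hc, hc'⟩ := exists_generic hZ'
    refine ⟨c, ?_, hc _ ⟨y, hyZ, rfl⟩, hc _ ⟨_, hxZ, rfl⟩⟩
    have h1 : c ∈ closure (Subtype.val '' Z) := by rw [← hc']; exact subset_closure rfl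
    refine closure_minimal ?_ hY h1
    rintro _ ⟨z, hz, rfl⟩
    have : z ∈ Subtype.val ⁻¹' Y := by rw [hYF]; exact ⟨Z, hZF, hz⟩
    exact this

/-- a dense open subset of a locally Noetherian space contains the maximal points -/
theorem mem_of_dense [QuasiSober T] [T0Space T]
    (hN : ∀ x : T, ∃ V : Set T, IsOpen V ∧ x ∈ V ∧ NoetherianSpace ↥V)
    {U : Set T} (hU : IsOpen U) (hd : Dense U) (η : T) (hη : ∀ c : T, c ⤳ η → c = η) : η ∈ U := by
  obtain ⟨V, hV, hηV, h⟩ := exists_nhd hN (isClosed_univ) η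
  obtain ⟨y, hyV, hyU⟩ := hd.inter_open_nonempty V hV ⟨η, hηV⟩
  obtain ⟨c, -, hcy, hcη⟩ := h y ⟨hyV, trivial⟩
  obtain rfl := hη c hcη
  exact hcy.mem_open hU hyU

/-- every point is a specialization of a maximal point -/
theorem exists_maximal [QuasiSober T] [T0Space T] (x : T) : ∃ η : T, η ⤳ x ∧ ∀ c : T, c ⤳ η → c = η := by
  obtain ⟨η, hη⟩ := QuasiSober.sober (isIrreducible_irreducibleComponent (x := x))
    (isClosed_irreducibleComponent (x := x))
  refine ⟨η, ?_, fun c hc => ?_⟩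
  · rw [specializes_iff_mem_closure, hη.def]
    exact mem_irreducibleComponent
  · have h1 : IsIrreducible (closure ({c} : Set T)) := isIrreducible_singleton.closure
    have h2 : irreducibleComponent x ⊆ closure ({c} : Set T) := by
      rw [← hη.def]
      exact closure_minimal (singleton_subset_iff.mpr (specializes_iff_mem_closure.mp hc))
        isClosed_closure
    have h3 : closure ({c} : Set T) ⊆ irreducibleComponent x := by
      have := (irreducibleComponent_mem_irreducibleComponents x)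
      exact this.2 h1 h2
    have h4 : η ⤳ c := by
      rw [specializes_iff_mem_closure, hη.def]
      exact h3 (subset_closure rfl)
    exact (hc.antisymm h4).eq

section Delta

variable (δ : T → ℕ)
  (hδ : ∀ U : Set T, IsOpen U → ∀ x ∈ U, topologicalKrullDim ↥(U ∩ closure ({x} : Set T)) = δ x)

include hδ

theorem dim_closure_eq (x : T) : topologicalKrullDim ↥(closure ({x} : Set T)) = δ x := by
  have := hδ univ isOpen_univ x trivial
  rwa [univ_inter] at this

theorem delta_le {x y : T} (h : x ⤳ y) : δ y ≤ δ x := by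
  have h1 : closure ({y} : Set T) ⊆ closure ({x} : Set T) :=
    closure_minimal (singleton_subset_iff.mpr (specializes_iff_mem_closure.mp h)) isClosed_closure
  have h2 := dim_mono h1
  rw [dim_closure_eq δ hδ, dim_closure_eq δ hδ] at h2
  exact_mod_cast h2

theorem dim_open_inter_closed_eq [QuasiSober T] {U Y : Set T} (hU : IsOpen U) (hY : IsClosed Y) :
    topologicalKrullDim ↥(U ∩ Y) = ⨆ x : ↥(U ∩ Y), ((δ x : ℕ) : WithBot ℕ∞) := by
  rw [dim_open_inter_closed hU hY]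
  exact iSup_congr fun x => hδ U hU x x.2.1

/-- (10.6.2)-type statement: a dense open subset has the same dimension -/
theorem dim_eq_of_dense [QuasiSober T] [T0Space T]
    (hN : ∀ x : T, ∃ V : Set T, IsOpen V ∧ x ∈ V ∧ NoetherianSpace ↥V)
    {U : Set T} (hU : IsOpen U) (hd : Dense U) : topologicalKrullDim ↥U = topologicalKrullDim T := by
  refine le_antisymm (topologicalKrullDim_subspace_le T U) ?_
  have h1 : topologicalKrullDim ↥U = ⨆ x : ↥(U ∩ univ), ((δ x : ℕ) : WithBot ℕ∞) := by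
    rw [← dim_open_inter_closed_eq δ hδ hU isClosed_univ, inter_univ]
  have h2 : topologicalKrullDim T = ⨆ x : ↥((univ : Set T) ∩ univ), ((δ x : ℕ) : WithBot ℕ∞) := by
    rw [← dim_open_inter_closed_eq δ hδ isOpen_univ isClosed_univ, inter_univ, dim_univ_eq]
  rw [h1, h2]
  refine iSup_le fun x => ?_
  obtain ⟨η, hηx, hη⟩ := exists_maximal (x : T)
  have hηU := mem_of_dense hN hU hd η hη
  have h3 : (δ x : WithBot ℕ∞) ≤ (δ η : WithBot ℕ∞) := by exact_mod_cast delta_le δ hδ hηx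
  exact h3.trans (le_iSup (fun x : ↥(U ∩ univ) => ((δ x : ℕ) : WithBot ℕ∞)) ⟨η, hηU, trivial⟩)

/-- the dimension of `U ∩ Y` for small neighbourhoods `U` of `x ∈ Y` -/
theorem dim_inter_eq_iSup_generizations [QuasiSober T] {Y : Set T} (hY : IsClosed Y) (x : T)
    {U : Set T} (hU : IsOpen U) (hxU : x ∈ U) (h : ∀ y ∈ U ∩ Y, ∃ c ∈ Y, c ⤳ y ∧ c ⤳ x) :
    topologicalKrullDim ↥(U ∩ Y) = ⨆ t : ↥{t : T | t ∈ Y ∧ t ⤳ x}, ((δ t : ℕ) : WithBot ℕ∞) := by
  rw [dim_open_inter_closed_eq δ hδ hU hY]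
  apply le_antisymm
  · refine iSup_le fun y => ?_
    obtain ⟨c, hcY, hcy, hcx⟩ := h y y.2
    have h3 : (δ y : WithBot ℕ∞) ≤ (δ c : WithBot ℕ∞) := by exact_mod_cast delta_le δ hδ hcy
    exact h3.trans (le_iSup (fun t : ↥{t : T | t ∈ Y ∧ t ⤳ x} => ((δ t : ℕ) : WithBot ℕ∞)) ⟨c, hcY, hcx⟩)
  · refine iSup_le fun t => ?_
    exact le_iSup (fun y : ↥(U ∩ Y) => ((δ y : ℕ) : WithBot ℕ∞)) ⟨t, t.2.2.mem_open hU hxU, t.2.1⟩

theorem iSup_generizations_le [QuasiSober T] {Y : Set T} (hY : IsClosed Y) (x : T)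
    {U : Set T} (hU : IsOpen U) (hxU : x ∈ U) :
    ⨆ t : ↥{t : T | t ∈ Y ∧ t ⤳ x}, ((δ t : ℕ) : WithBot ℕ∞) ≤ topologicalKrullDim ↥(U ∩ Y) := by
  rw [dim_open_inter_closed_eq δ hδ hU hY]
  refine iSup_le fun t => ?_
  exact le_iSup (fun y : ↥(U ∩ Y) => ((δ y : ℕ) : WithBot ℕ∞)) ⟨t, t.2.2.mem_open hU hxU, t.2.1⟩

theorem localDim_eq [QuasiSober T]
    (hN : ∀ x : T, ∃ V : Set T, IsOpen V ∧ x ∈ V ∧ NoetherianSpace ↥V)
    {Y : Set T} (hY : IsClosed Y) (x : T) (hx : x ∈ Y) :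
    FlatMor.localDim ↥Y ⟨x, hx⟩ = ⨆ t : ↥{t : T | t ∈ Y ∧ t ⤳ x}, ((δ t : ℕ) : WithBot ℕ∞) := by
  apply le_antisymm
  · obtain ⟨V, hV, hxV, h⟩ := exists_nhd hN hY x
    rw [← dim_inter_eq_iSup_generizations δ hδ hY x hV hxV h, ← dim_preimage_val]
    exact localDim_le (X := ↥Y) ⟨x, hx⟩ ⟨Subtype.val ⁻¹' V, hV.preimage continuous_subtype_val⟩ hxV
  · refine le_iInf ?_
    rintro ⟨⟨U, hU⟩, hxU⟩
    obtain ⟨V, hV, rfl⟩ := isOpen_induced_iff.mp hU
    change _ ≤ topologicalKrullDim (Subtype.val ⁻¹' V : Set ↥Y)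
    rw [dim_preimage_val]
    exact iSup_generizations_le δ hδ hY x hV hxU

end Delta

end K122.TopDelta
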