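import Groth.Agent.EGA43.K122.DimJac
import Groth.Agent.EGA43.K122.TopDelta
import Mathlib.Data.ENat.Lattice

/-!
# Local dimension formula over a Jacobson universally catenary base
-/

set_option autoImplicit false
universe u
open CategoryTheory AlgebraicGeometry TopologicalSpace Topology

namespace K122.DimJac2

open K122.DimJac K122.TopDelta Groth.Agent.Ega4fib.H175.JacobsonDim

variable {X S : Scheme.{u}}

theorem exists_noetherian_nhd (X : Scheme.{u}) [IsLocallyNoetherian X] (x : X) :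
    ∃ V : Set X, IsOpen V ∧ x ∈ V ∧ NoetherianSpace ↥V := by
  obtain ⟨U, hU, hxU, -⟩ := exists_isAffineOpen_mem_and_subset (X := X) (x := x) (U := ⊤) trivial
  have hN : IsNoetherianRing Γ(X, U) := IsLocallyNoetherian.component_noetherian ⟨U, hU⟩
  exact ⟨U, U.2, hxU, noetherianSpace_of_isAffineOpen U hU⟩

theorem add_iSup_nat {ι : Sort*} [Nonempty ι] (a : ℕ) (f : ι → ℕ) :
    (a : WithBot ℕ∞) + ⨆ i, (f i : WithBot ℕ∞) = ⨆ i, ((a + f i : ℕ) : WithBot ℕ∞) := by
  have h1 : ∀ g : ι → ℕ, (⨆ i, (g i : WithBot ℕ∞)) = ((⨆ i, (g i : ℕ∞) : ℕ∞) : WithBot ℕ∞) := by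
    intro g
    rw [WithBot.coe_iSup (OrderTop.bddAbove _)]
    rfl
  rw [h1, h1]
  have h2 : (⨆ i, ((a + f i : ℕ) : ℕ∞)) = (a : ℕ∞) + ⨆ i, (f i : ℕ∞) := by
    rw [ENat.add_iSup]
    refine iSup_congr fun i => ?_
    push_cast
    rfl
  rw [h2]
  rfl

/-- `δ x + dim {t ∈ Y | t ⤳ x} = sup {δ t | t ∈ Y, t ⤳ x}` -/
theorem add_dim_generizations [IsLocallyNoetherian X] (δ : X → ℕ)
    (h1 : ∀ (x y : X) (h : x ⤳ y),
        ringKrullDim (Cyc.LocQuot y x h) + (δ y : WithBot ℕ∞) = (δ x : WithBot ℕ∞))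
    {Y : Set X} (hY : IsClosed Y) (x : X) (hx : x ∈ Y) :
    (δ x : WithBot ℕ∞) + topologicalKrullDim ↥{t : X | t ∈ Y ∧ t ⤳ x} =
      ⨆ t : ↥{t : X | t ∈ Y ∧ t ⤳ x}, ((δ t : ℕ) : WithBot ℕ∞) := by
  rw [dim_generizations hY x]
  have h2 : ∀ t : ↥{t : X | t ∈ Y ∧ t ⤳ x}, ∃ n : ℕ,
      topologicalKrullDim ↥{z : X | (t : X) ⤳ z ∧ z ⤳ x} = n ∧ δ x + n = δ t := by
    intro t
    obtain ⟨n, hn⟩ := exists_dim_locQuot t.2.2
    refine ⟨n, ?_, ?_⟩
    · rw [dim_between t.2.2, hn]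
    · have := h1 t x t.2.2
      rw [hn] at this
      have h3 : n + δ x = δ t := by exact_mod_cast this
      omega
  choose n hn hn' using h2
  have : Nonempty ↥{t : X | t ∈ Y ∧ t ⤳ x} := ⟨⟨x, hx, specializes_rfl⟩⟩
  simp_rw [hn]
  rw [add_iSup_nat]
  exact iSup_congr fun t => by rw [hn']

section

variable [IsLocallyNoetherian S] [JacobsonSpace S]
    (h2 : ∀ s : S, CAlg.IsUniversallyCatenary (S.presheaf.stalk s))
    (h3 : ∀ S' ∈ irreducibleComponents (S : Type u), ∀ s ∈ S', IsClosed ({s} : Set S) →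
      topologicalKrullDim (↥S' : Type u) = topologicalKrullDim ↥{t : S | t ∈ S' ∧ t ⤳ s})
    (p : X ⟶ S) [LocallyOfFiniteType p]

include h2 h3 p

/-- `dim_x Y = dim cl{x} + codim(cl{x}, Y)` -/
theorem localDim_eq_add {Y : Set X} (hY : IsClosed Y) (x : X) (hx : x ∈ Y) :
    FlatMor.localDim ↥Y ⟨x, hx⟩ =
      topologicalKrullDim ↥(closure ({x} : Set X)) + topologicalKrullDim ↥{t : X | t ∈ Y ∧ t ⤳ x} := by
  have hXN : IsLocallyNoetherian X := LocallyOfFiniteType.isLocallyNoetherian p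
  obtain ⟨δ, hδ1, hδ2⟩ := exists_delta h2 h3 p
  rw [localDim_eq δ hδ2 (exists_noetherian_nhd X) hY x hx, dim_closure_eq δ hδ2,
    add_dim_generizations δ hδ1 hY x hx]

/-- `dim_x Y` is the supremum of the dimensions of the irreducible components of `Y` through `x` -/
theorem localDim_eq_iSup_components {Y : Set X} (hY : IsClosed Y) (x : X) (hx : x ∈ Y) :
    FlatMor.localDim ↥Y ⟨x, hx⟩ =
      ⨆ C ∈ {C : Set ↥Y | C ∈ irreducibleComponents ↥Y ∧ (⟨x, hx⟩ : ↥Y) ∈ C},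
        topologicalKrullDim ↥C := by
  have hXN : IsLocallyNoetherian X := LocallyOfFiniteType.isLocallyNoetherian p
  obtain ⟨δ, hδ1, hδ2⟩ := exists_delta h2 h3 p
  rw [localDim_eq δ hδ2 (exists_noetherian_nhd X) hY x hx]
  have hqs : QuasiSober ↥Y := hY.isClosedEmbedding_subtypeVal.quasiSober
  -- dimension of the closure of a point of `Y`
  have key : ∀ t : ↥Y, topologicalKrullDim ↥(closure ({t} : Set ↥Y)) = δ t := by
    intro t
    rw [← dim_closure_eq δ hδ2 (t : X)]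
    have h4 : closure ({t} : Set ↥Y) = Subtype.val ⁻¹' (closure ({(t : X)} : Set X)) := by
      rw [IsInducing.subtypeVal.closure_eq_preimage_closure_image, Set.image_singleton]
    rw [h4, K284.TopDim.dim_preimage_val]
    rw [Set.inter_eq_left.mpr (closure_minimal (Set.singleton_subset_iff.mpr t.2) hY)]
  apply le_antisymm
  · refine iSup_le fun t => ?_
    obtain ⟨η, hη, hη'⟩ := exists_maximal (T := ↥Y) ⟨t, t.2.1⟩
    have hηx : η ⤳ (⟨x, hx⟩ : ↥Y) := by
      refine hη.trans ?_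
      rw [← IsInducing.subtypeVal.specializes_iff]
      exact t.2.2
    have hmem : closure ({η} : Set ↥Y) ∈ irreducibleComponents ↥Y := by
      refine ⟨isIrreducible_singleton.closure, fun Z hZ hle => ?_⟩
      obtain ⟨g, hg, hg'⟩ := exists_generic hZ
      have : g = η := hη' g (hg _ (hle (subset_closure rfl)))
      subst this
      rw [hg']
      exact subset_closure
    have h5 : (δ t : WithBot ℕ∞) ≤ (δ η : WithBot ℕ∞) := by
      have h6 : (η : X) ⤳ (t : X) := by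
        have := hη.map (continuous_subtype_val)
        exact this
      exact_mod_cast delta_le δ hδ2 h6
    refine h5.trans ?_
    rw [← key η]
    exact le_iSup₂ (f := fun (C : Set ↥Y) (_ : C ∈ {C : Set ↥Y | C ∈ irreducibleComponents ↥Y ∧
      (⟨x, hx⟩ : ↥Y) ∈ C}) => topologicalKrullDim ↥C) (closure ({η} : Set ↥Y))
      ⟨hmem, specializes_iff_mem_closure.mp hηx⟩
  · refine iSup₂_le fun C hC => ?_
    obtain ⟨g, hg, hg'⟩ := exists_generic hC.1.1
    have hCc : IsClosed C := isClosed_of_mem_irreducibleComponents C hC.1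
    rw [hCc.closure_eq] at hg'
    rw [← hg', key g]
    have h7 : (g : X) ⤳ x := (hg _ hC.2).map continuous_subtype_val
    exact le_iSup (fun t : ↥{t : X | t ∈ Y ∧ t ⤳ x} => ((δ t : ℕ) : WithBot ℕ∞)) ⟨g, g.2, h7⟩

theorem dim_inter_eq_localDim {Y : Set X} (hY : IsClosed Y) (x : X) (hx : x ∈ Y) (U : Set X)
    (hU : IsOpen U) (hxU : x ∈ U)
    (h : ∀ C ∈ irreducibleComponents ↥Y, (⟨x, hx⟩ : ↥Y) ∉ C → Disjoint (Subtype.val ⁻¹' U) C) :
    topologicalKrullDim ↥(U ∩ Y) = FlatMor.localDim ↥Y ⟨x, hx⟩ := by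
  have hXN : IsLocallyNoetherian X := LocallyOfFiniteType.isLocallyNoetherian p
  obtain ⟨δ, hδ1, hδ2⟩ := exists_delta h2 h3 p
  rw [localDim_eq δ hδ2 (exists_noetherian_nhd X) hY x hx]
  refine dim_inter_eq_iSup_generizations δ hδ2 hY x hU hxU ?_
  rintro y ⟨hyU, hyY⟩
  have hqs : QuasiSober ↥Y := hY.isClosedEmbedding_subtypeVal.quasiSober
  have hC := irreducibleComponent_mem_irreducibleComponents (⟨y, hyY⟩ : ↥Y)
  obtain ⟨g, hg, hg'⟩ := exists_generic hC.1
  refine ⟨g, g.2, (hg _ mem_irreducibleComponent).map continuous_subtype_val, ?_⟩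
  have hxC : (⟨x, hx⟩ : ↥Y) ∈ irreducibleComponent (⟨y, hyY⟩ : ↥Y) := by
    by_contra hcon
    exact (Set.disjoint_left.mp (h _ hC hcon)) (show (⟨y, hyY⟩ : ↥Y) ∈ Subtype.val ⁻¹' U from hyU)
      mem_irreducibleComponent
  exact (hg _ hxC).map continuous_subtype_val

end

end K122.DimJac2
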