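import Groth.Agent.S2113
import Mathlib.AlgebraicGeometry.Noetherian
import Mathlib.Topology.KrullDimension
import Mathlib.RingTheory.Ideal.KrullsHeightTheorem

/-!
# Points which are locally closed in a Noetherian scheme have finite closure
-/

set_option autoImplicit false
universe u
open CategoryTheory AlgebraicGeometry TopologicalSpace Topology

namespace K122.IsolatedPt

/-- If the closure of a prime `p` of a Noetherian ring has isolated generic point then it is finite, and
every larger prime is maximal. -/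
theorem finite_of_forall_mem {A : Type u} [CommRing A] [IsNoetherianRing A] (p : PrimeSpectrum A)
    (f : A) (hf : f ∉ p.asIdeal) (h : ∀ q : PrimeSpectrum A, p ≤ q → q ≠ p → f ∈ q.asIdeal) :
    {q : PrimeSpectrum A | p ≤ q}.Finite ∧ ∀ q : PrimeSpectrum A, p ≤ q → q ≠ p →
      q.asIdeal.IsMaximal := by
  have hf0 : Ideal.Quotient.mk p.asIdeal f ≠ 0 := by
    rwa [Ne, Ideal.Quotient.eq_zero_iff_mem]
  have hq : ∀ q : Ideal (A ⧸ p.asIdeal), q.IsPrime → q ≠ ⊥ → Ideal.Quotient.mk p.asIdeal f ∈ q := by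
    intro q hq hq0
    have hqp : (q.comap (Ideal.Quotient.mk p.asIdeal)).IsPrime := Ideal.comap_isPrime _ _
    have := h ⟨q.comap (Ideal.Quotient.mk p.asIdeal), hqp⟩ ?_ ?_
    · exact this
    · intro x hx
      change Ideal.Quotient.mk p.asIdeal x ∈ q
      rw [Ideal.Quotient.eq_zero_iff_mem.2 hx]
      exact q.zero_mem
    · intro he
      apply hq0
      rw [← le_bot_iff]
      intro y hy
      obtain ⟨y, rfl⟩ := Ideal.Quotient.mk_surjective y
      have : y ∈ p.asIdeal := by
        rw [← congrArg PrimeSpectrum.asIdeal he]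
        exact hy
      rw [Ideal.mem_bot, Ideal.Quotient.eq_zero_iff_mem]
      exact this
  have hfin := Groth.Agent.S2113.finite_spectrum hf0 hq
  have key : ∀ q : PrimeSpectrum A, p ≤ q →
      ∃ Q : PrimeSpectrum (A ⧸ p.asIdeal), PrimeSpectrum.comap (Ideal.Quotient.mk p.asIdeal) Q = q := by
    intro q hpq
    have : q ∈ Set.range (PrimeSpectrum.comap (Ideal.Quotient.mk p.asIdeal)) := by
      rw [_root_.range_comap_of_surjective _ _ Ideal.Quotient.mk_surjective,
        PrimeSpectrum.mem_zeroLocus, Ideal.mk_ker]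
      exact hpq
    exact this
  refine ⟨?_, ?_⟩
  · refine (Set.finite_range (PrimeSpectrum.comap (Ideal.Quotient.mk p.asIdeal))).subset ?_
    intro q hpq
    exact key q hpq
  · intro q hpq hqne
    obtain ⟨Q, hQ⟩ := key q hpq
    obtain ⟨m, hm, hqm⟩ := Ideal.exists_le_maximal q.asIdeal q.isPrime.ne_top
    obtain ⟨M, hM⟩ := key ⟨m, hm.isPrime⟩ (hpq.trans hqm)
    have hQM : Q.asIdeal ≤ M.asIdeal := by
      intro y hy
      obtain ⟨y, rfl⟩ := Ideal.Quotient.mk_surjective y
      have h1 : y ∈ q.asIdeal := by rw [← hQ]; exact hy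
      have h2 : y ∈ m := hqm h1
      have h3 : y ∈ (PrimeSpectrum.comap (Ideal.Quotient.mk p.asIdeal) M).asIdeal := by rw [hM]; exact h2
      exact h3
    have hQ0 : Q.asIdeal ≠ ⊥ := by
      intro h0
      apply hqne
      rw [← hQ]
      ext x
      rw [PrimeSpectrum.comap_asIdeal, Ideal.mem_comap, h0, Ideal.mem_bot,
        Ideal.Quotient.eq_zero_iff_mem]
    have hM0 : M.asIdeal ≠ ⊥ := by
      intro h0
      apply hQ0
      rw [← le_bot_iff, ← h0]
      exact hQM
    have e1 := Groth.Agent.S2113.mem_minimalPrimes_span hf0 hq _ Q.isPrime hQ0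
    have e2 := Groth.Agent.S2113.mem_minimalPrimes_span hf0 hq _ M.isPrime hM0
    have e3 : M.asIdeal ≤ Q.asIdeal := e2.2 e1.1 hQM
    have e4 : Q = M := PrimeSpectrum.ext (le_antisymm hQM e3)
    rw [e4, hM] at hQ
    rw [← hQ]
    exact hm

theorem finite_of_isLocallyClosed {A : Type u} [CommRing A] [IsNoetherianRing A] (p : PrimeSpectrum A)
    (hp : IsLocallyClosed ({p} : Set (PrimeSpectrum A))) :
    {q : PrimeSpectrum A | p ≤ q}.Finite ∧ ∀ q : PrimeSpectrum A, p ≤ q → q ≠ p →
      q.asIdeal.IsMaximal := by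
  obtain ⟨V, C, hV, hC, hVC⟩ := hp
  have hpVC : p ∈ V ∩ C := by rw [← hVC]; rfl
  obtain ⟨-, ⟨f, rfl⟩, hpf, hfV⟩ := PrimeSpectrum.isTopologicalBasis_basic_opens.exists_subset_of_mem_open
    hpVC.1 hV
  refine finite_of_forall_mem p f hpf ?_
  intro q hpq hqp
  by_contra hfq
  apply hqp
  have h1 : q ∈ V ∩ C := ⟨hfV hfq, ?_⟩
  · rw [← hVC] at h1
    exact h1
  · have : p ⤳ q := (PrimeSpectrum.le_iff_specializes p q).mp hpq
    exact this.mem_closed hC hpVC.2

/-- trace on an affine open -/
theorem affine_inter {X : Scheme.{u}} [IsLocallyNoetherian X] (x : X)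
    (hx : IsLocallyClosed ({x} : Set X)) (U : X.Opens) (hU : IsAffineOpen U) :
    ((U : Set X) ∩ closure ({x} : Set X)).Finite ∧
      ∀ y ∈ (U : Set X) ∩ closure ({x} : Set X), y ≠ x →
        ∀ z ∈ (U : Set X), y ⤳ z → z = y := by
  by_cases hxU : x ∈ U
  · have hN : IsNoetherianRing Γ(X, U) := IsLocallyNoetherian.component_noetherian ⟨U, hU⟩
    let g : PrimeSpectrum Γ(X, U) → X := fun q => hU.fromSpec q
    have hemb : IsOpenEmbedding g := hU.fromSpec.isOpenEmbedding
    have hrange : Set.range g = (U : Set X) := hU.range_fromSpec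
    obtain ⟨p, hp⟩ : x ∈ Set.range g := by rw [hrange]; exact hxU
    have hlc : IsLocallyClosed ({p} : Set (PrimeSpectrum Γ(X, U))) := by
      have : ({p} : Set (PrimeSpectrum Γ(X, U))) = g ⁻¹' {x} := by
        ext q
        rw [Set.mem_singleton_iff, Set.mem_preimage, Set.mem_singleton_iff]
        constructor
        · rintro rfl; exact hp
        · intro hq; exact hemb.injective (hq.trans hp.symm)
      rw [this]
      exact hx.preimage hemb.continuous
    obtain ⟨h1, h2⟩ := finite_of_isLocallyClosed p hlc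
    have key : ∀ q : PrimeSpectrum Γ(X, U), g q ∈ closure ({x} : Set X) ↔ p ≤ q := by
      intro q
      rw [← specializes_iff_mem_closure, ← hp, hemb.toIsInducing.specializes_iff,
        PrimeSpectrum.le_iff_specializes]
    refine ⟨?_, ?_⟩
    · refine (h1.image g).subset ?_
      rintro y ⟨hyU, hyx⟩
      obtain ⟨q, rfl⟩ : y ∈ Set.range g := by rw [hrange]; exact hyU
      exact ⟨q, (key q).mp hyx, rfl⟩
    · rintro y ⟨hyU, hyx⟩ hne z hzU hyz
      obtain ⟨q, rfl⟩ : y ∈ Set.range g := by rw [hrange]; exact hyU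
      obtain ⟨r, rfl⟩ : z ∈ Set.range g := by rw [hrange]; exact hzU
      have hpq := (key q).mp hyx
      have hmax := h2 q hpq (by rintro rfl; exact hne hp)
      rw [hemb.toIsInducing.specializes_iff] at hyz
      have hqr : q ≤ r := (PrimeSpectrum.le_iff_specializes q r).mpr hyz
      have : q.asIdeal = r.asIdeal := hmax.eq_of_le r.isPrime.ne_top hqr
      rw [PrimeSpectrum.ext this]
  · have : (U : Set X) ∩ closure ({x} : Set X) = ∅ := by
      rw [Set.eq_empty_iff_forall_notMem]
      rintro y ⟨hyU, hyx⟩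
      exact hxU ((specializes_iff_mem_closure.mpr hyx).mem_open U.2 hyU)
    rw [this]
    refine ⟨Set.finite_empty, ?_⟩
    rintro y hy
    exact absurd hy (Set.notMem_empty y)

theorem finite_closure (X : Scheme.{u}) [IsNoetherian X] (x : X)
    (hx : IsLocallyClosed ({x} : Set X)) : (closure ({x} : Set X)).Finite := by
  have hcov : ∀ y : X, ∃ U : X.Opens, IsAffineOpen U ∧ y ∈ U := by
    intro y
    obtain ⟨U, hU, hyU, -⟩ := exists_isAffineOpen_mem_and_subset (X := X) (x := y) (U := ⊤) trivial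
    exact ⟨U, hU, hyU⟩
  choose U hU hyU using hcov
  obtain ⟨t, ht⟩ := isCompact_univ.elim_finite_subcover (fun y : X => (U y : Set X))
    (fun y => (U y).2) (fun y _ => Set.mem_iUnion.mpr ⟨y, hyU y⟩)
  refine (t.finite_toSet.biUnion (t := fun y => (U y : Set X) ∩ closure ({x} : Set X))
    (fun y _ => (affine_inter x hx (U y) (hU y)).1)).subset ?_
  intro z hz
  obtain ⟨y, hy, hzy⟩ := Set.mem_iUnion₂.mp (ht (Set.mem_univ z))
  exact Set.mem_iUnion₂.mpr ⟨y, hy, hzy, hz⟩

/-- every point of `closure {x}` other than `x` is closed, if `{x}` is locally closed -/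
theorem isClosed_of_mem_closure (X : Scheme.{u}) [IsLocallyNoetherian X] (x : X)
    (hx : IsLocallyClosed ({x} : Set X)) (y : X) (hy : y ∈ closure ({x} : Set X)) (hne : y ≠ x) :
    IsClosed ({y} : Set X) := by
  rw [← closure_subset_iff_isClosed]
  intro z hz
  have hyz : y ⤳ z := specializes_iff_mem_closure.mpr hz
  obtain ⟨U, hU, hzU, -⟩ := exists_isAffineOpen_mem_and_subset (X := X) (x := z) (U := ⊤) trivial
  exact (affine_inter x hx U hU).2 y ⟨hyz.mem_open U.2 hzU, hy⟩ hne z hzU hyz

end K122.IsolatedPt
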