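import Groth.Agent.S3449
import Groth.Agent.CycA.ClosurePt
import Groth.Agent.S10831

/-!
# Dimension theory over a Jacobson universally catenary base with equidimensional components

The function `x ↦ dim cl{x}` on a scheme locally of finite type over such a base.
-/

set_option autoImplicit false
universe u
open CategoryTheory AlgebraicGeometry TopologicalSpace Topology
open Groth.Agent.CycB Groth.Agent.CycB.AffinePt Groth.Agent.CycB.RelDim
  Groth.Agent.Ega4fib.H175.JacobsonDim

namespace K122.DimJac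

variable {X S : Scheme.{u}}

/-- every point of a Jacobson space specializes to a closed point -/
theorem exists_closed_specialization {T : Type*} [TopologicalSpace T] [JacobsonSpace T] (t : T) :
    ∃ s : T, t ⤳ s ∧ IsClosed ({s} : Set T) := by
  obtain ⟨y, hy, hyc⟩ := nonempty_inter_closedPoints (Z := closure ({t} : Set T))
    ⟨t, subset_closure rfl⟩ isClosed_closure.isLocallyClosed
  exact ⟨y, specializes_iff_mem_closure.mpr hy, hyc⟩

/-- the additivity part: `dim cl{x} = dim cl{y} + dim O_{cl{x},y}` -/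
theorem add_aux [IsLocallyNoetherian S] [JacobsonSpace S]
    (h2 : ∀ s : S, CAlg.IsUniversallyCatenary (S.presheaf.stalk s))
    (p : X ⟶ S) [LocallyOfFiniteType p] (c : S → ℕ)
    (hc : ∀ (t s : S) (h : t ⤳ s), IsClosed ({s} : Set S) → ringKrullDim (Cyc.LocQuot s t h) = c t)
    (n : X → ℕ) (hn : ∀ x, rtd p x = n x) {x y : X} (h : x ⤳ y) :
    ringKrullDim (Cyc.LocQuot y x h) + ((c (p y) + n y : ℕ) : WithBot ℕ∞) =
      ((c (p x) + n x : ℕ) : WithBot ℕ∞) := by
  have hXN : IsLocallyNoetherian X := LocallyOfFiniteType.isLocallyNoetherian p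
  obtain ⟨a, b, ha, hb, hab⟩ := SetupLft.dimension_formula_specializes p h2 h
  obtain ⟨s, hs, hsc⟩ := exists_closed_specialization (p y)
  have hpxy : p x ⤳ p y := h.map p.continuous
  have e1 := hc (p x) s (hpxy.trans hs) hsc
  have e2 := hc (p y) s hs hsc
  have e3 := dim_locQuot_add h2 hpxy hs
  obtain ⟨a', ha'⟩ := exists_dim_locQuot h
  obtain ⟨b', hb'⟩ := exists_dim_locQuot hpxy
  rw [e1, e2, hb'] at e3
  have e4 : c (p x) = b' + c (p y) := by exact_mod_cast e3
  rw [ha'] at ha
  have hb2 : (b : WithBot ℕ∞) = (b' : WithBot ℕ∞) := by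
    rw [hb]; exact hb'
  have ea : a = (a' : ℕ∞) := by exact_mod_cast ha
  have eb : b = (b' : ℕ∞) := by exact_mod_cast hb2
  subst ea
  subst eb
  have hab' : ((a' : ℕ∞) : Cardinal.{u}) + rtd p y = ((b' : ℕ∞) : Cardinal.{u}) + rtd p x := hab
  rw [hn, hn, Cardinal.ofENat_nat, Cardinal.ofENat_nat] at hab'
  have e5 : a' + n y = b' + n x := by exact_mod_cast hab'
  rw [ha']
  have e6 : a' + (c (p y) + n y) = c (p x) + n x := by omega
  exact_mod_cast e6

/-- the dimension of (an open part of) the closure of a point -/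
theorem dim_aux [IsLocallyNoetherian S] [JacobsonSpace S]
    (h2 : ∀ s : S, CAlg.IsUniversallyCatenary (S.presheaf.stalk s))
    (p : X ⟶ S) [LocallyOfFiniteType p] (c : S → ℕ)
    (hc : ∀ (t s : S) (h : t ⤳ s), IsClosed ({s} : Set S) → ringKrullDim (Cyc.LocQuot s t h) = c t)
    (n : X → ℕ) (hn : ∀ x, rtd p x = n x) (U : X.Opens) (x : X) (hx : x ∈ U) :
    topologicalKrullDim ↥((U : Set X) ∩ closure ({x} : Set X)) = ((c (p x) + n x : ℕ) : WithBot ℕ∞) := by
  obtain ⟨Z, i, hi, hZ, hgen, hrange⟩ := Groth.Agent.CycA.ClosurePt.exists_closure_subscheme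
    (Y := (U : Scheme.{u})) ⟨x, hx⟩
  have key := Groth.Agent.S3449.dim_eq h2 (i ≫ U.ι ≫ p) (c (p x)) (n x) ?_ ?_
  · rw [← key]
    have hemb : IsEmbedding (i ≫ U.ι) := by
      rw [Scheme.Hom.comp_base]
      exact U.ι.isOpenEmbedding.isEmbedding.comp i.isClosedEmbedding.isEmbedding
    have hr : Set.range (i ≫ U.ι) = (U : Set X) ∩ closure ({x} : Set X) := by
      have h1 : Set.range (i ≫ U.ι) = U.ι '' (Set.range i) := by
        rw [Scheme.Hom.comp_base, TopCat.coe_comp, Set.range_comp]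
      rw [h1, hrange]
      ext y
      constructor
      · rintro ⟨z, hz, rfl⟩
        refine ⟨z.2, ?_⟩
        have h3 : (⟨x, hx⟩ : U) ⤳ z := specializes_iff_mem_closure.mpr hz
        exact specializes_iff_mem_closure.mp (h3.map U.ι.continuous)
      · rintro ⟨hyU, hyx⟩
        refine ⟨⟨y, hyU⟩, ?_, rfl⟩
        rw [← specializes_iff_mem_closure, ← U.ι.isOpenEmbedding.isInducing.specializes_iff]
        exact specializes_iff_mem_closure.mpr hyx
    rw [← hr]
    exact (IsHomeomorph.topologicalKrullDim_eq _ hemb.toHomeomorph.isHomeomorph).symm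
  · have h1 : (i ≫ U.ι ≫ p) (genericPoint Z) = p x := by
      rw [Scheme.Hom.comp_apply, Scheme.Hom.comp_apply, hgen]
      rfl
    rw [h1]
    exact fun s h hs => hc _ s h hs
  · rw [rtd_comp, rtd_comp, rtd_eq_zero_of_isPreimmersion i, rtd_eq_zero_of_isPreimmersion U.ι, hgen]
    simp only [add_zero]
    exact hn x

/-- The dimension function `δ x = dim cl{x}`. -/
theorem exists_delta [IsLocallyNoetherian S] [JacobsonSpace S]
    (h2 : ∀ s : S, CAlg.IsUniversallyCatenary (S.presheaf.stalk s))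
    (h3 : ∀ S' ∈ irreducibleComponents (S : Type u), ∀ s ∈ S', IsClosed ({s} : Set S) →
      topologicalKrullDim (↥S' : Type u) = topologicalKrullDim ↥{t : S | t ∈ S' ∧ t ⤳ s})
    (p : X ⟶ S) [LocallyOfFiniteType p] :
    ∃ δ : X → ℕ, (∀ (x y : X) (h : x ⤳ y),
        ringKrullDim (Cyc.LocQuot y x h) + (δ y : WithBot ℕ∞) = (δ x : WithBot ℕ∞)) ∧
      ∀ (U : Set X), IsOpen U → ∀ x ∈ U, topologicalKrullDim ↥(U ∩ closure ({x} : Set X)) = δ x := by
  choose c hc using Groth.Agent.S3449.exists_codim h2 h3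
  have hfin : ∀ x : X, ∃ n : ℕ, rtd p x = n := fun x => Cardinal.lt_aleph0.1 (rtd_lt_aleph0 p x)
  choose n hn using hfin
  refine ⟨fun x => c (p x) + n x, ?_, ?_⟩
  · intro x y h
    exact add_aux h2 p c hc n hn h
  · intro U hU x hx
    exact dim_aux h2 p c hc n hn ⟨U, hU⟩ x hx

end K122.DimJac
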