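import Groth.Agent.S1441
import Groth.Agent.S9827
import Groth.Agent.EGA43.K120.FlatPtAlg

/-!
# The flat locus over `C` of a module flat over the base commutes with base change

* `flatAt_iff_baseChange`: `C₁` finitely presented over `A₁`, `P₁` finitely presented over `C₁` and flat
  over `A₁`, `C = A ⊗ C₁`; for a prime `r` of `C` over `r₁` of `C₁`: `(C ⊗ P₁)_r` is flat over `C` iff
  `(P₁)_{r₁}` is flat over `C₁`.
-/

set_option autoImplicit false
universe u

open CategoryTheory AlgebraicGeometry Limits TensorProduct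

namespace K122.FlatAtDesc

open Groth.Agent K120.FlatPtAlg

theorem isFlatOver_tilde (A C P : Type u) [CommRing A] [CommRing C] [Algebra A C]
    [AddCommGroup P] [Module C P] [Module A P] [IsScalarTower A C P] [Module.Flat A P] :
    FlatMod.IsFlatOver (Spec.map (CommRingCat.ofHom (algebraMap A C)))
      (tilde (R := CommRingCat.of C) (ModuleCat.of C P)) := by
  intro x
  obtain ⟨q, _, rfl⟩ := exists_eq_pt x
  rw [isFlatOverAt_tilde_iff]
  exact Groth.Agent.FlatA.RelFlat.flat_of_isLocalizedModule (S := C) q.primeCompl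
    (LocalizedModule.mkLinearMap _ _)

theorem flatAt_iff_baseChange {A₁ A C₁ C P₁ : Type u} [CommRing A₁] [CommRing A] [CommRing C₁]
    [CommRing C] [Algebra A₁ A] [Algebra A₁ C₁] [Algebra A C] [Algebra C₁ C] [Algebra A₁ C]
    [IsScalarTower A₁ A C] [IsScalarTower A₁ C₁ C] [Algebra.IsPushout A₁ A C₁ C]
    [Algebra.FinitePresentation A₁ C₁] [AddCommGroup P₁] [Module C₁ P₁] [Module A₁ P₁]
    [IsScalarTower A₁ C₁ P₁] [Module.FinitePresentation C₁ P₁] [Module.Flat A₁ P₁]
    (r : Ideal C) [r.IsPrime] :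
    FlatCA.FlatAt C r (C ⊗[C₁] P₁) ↔ FlatCA.FlatAt C₁ (r.comap (algebraMap C₁ C)) P₁ := by
  let f : Spec (CommRingCat.of C₁) ⟶ Spec (CommRingCat.of C₁) :=
    Spec.map (CommRingCat.ofHom (algebraMap C₁ C₁))
  let g : Spec (CommRingCat.of C₁) ⟶ Spec (CommRingCat.of A₁) :=
    Spec.map (CommRingCat.ofHom (algebraMap A₁ C₁))
  have hf : f = 𝟙 _ := Spec.map_id (CommRingCat.of C₁)
  let f' : Spec (CommRingCat.of C) ⟶ Spec (CommRingCat.of C) :=
    Spec.map (CommRingCat.ofHom (algebraMap C C))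
  let g' : Spec (CommRingCat.of C) ⟶ Spec (CommRingCat.of A) :=
    Spec.map (CommRingCat.ofHom (algebraMap A C))
  have hf' : f' = 𝟙 _ := Spec.map_id (CommRingCat.of C)
  let h : Spec (CommRingCat.of A) ⟶ Spec (CommRingCat.of A₁) :=
    Spec.map (CommRingCat.ofHom (algebraMap A₁ A))
  let gY : Spec (CommRingCat.of C) ⟶ Spec (CommRingCat.of C₁) :=
    Spec.map (CommRingCat.ofHom (algebraMap C₁ C))
  have hpush : Algebra.IsPushout A₁ C₁ A C := Algebra.IsPushout.symm inferInstance
  have hY : IsPullback gY g' g h :=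
    isPullback_SpecMap_of_isPushout _ _ _ _ (CommRingCat.isPushout_of_isPushout A₁ C₁ A C)
  have hX : IsPullback gY (f' ≫ g') (f ≫ g) h := by
    rw [hf, hf', Category.id_comp, Category.id_comp]
    exact hY
  have w : gY ≫ f = f' ≫ gY := by rw [hf, hf', Category.id_comp, Category.comp_id]
  have hg : LocallyOfFinitePresentation g := by
    rw [HasRingHomProperty.Spec_iff (P := @LocallyOfFinitePresentation)]
    exact (RingHom.finitePresentation_algebraMap).2 inferInstance
  have hfg : LocallyOfFinitePresentation (f ≫ g) := by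
    rw [hf, Category.id_comp]
    exact hg
  have hfl : FlatMod.IsFlatOver (f ≫ g) (tilde (R := CommRingCat.of C₁) (ModuleCat.of C₁ P₁)) := by
    rw [hf, Category.id_comp]
    exact isFlatOver_tilde A₁ C₁ P₁
  have key := (S1441.result f g (tilde (R := CommRingCat.of C₁) (ModuleCat.of C₁ P₁))
    inferInstance ((S9827.result _ _).2 (by infer_instance)) hfl).2 h gY g' hY gY f' hX w
  have h1 : FlatMod.IsFlatOverAt f' ((Scheme.Modules.pullback gY).obj
      (tilde (R := CommRingCat.of C₁) (ModuleCat.of C₁ P₁))) (pt r) ↔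
      FlatMod.IsFlatOverAt f (tilde (R := CommRingCat.of C₁) (ModuleCat.of C₁ P₁)) (gY (pt r)) :=
    Set.ext_iff.1 key (pt r)
  have h2 : FlatMod.IsFlatOverAt f' ((Scheme.Modules.pullback gY).obj
      (tilde (R := CommRingCat.of C₁) (ModuleCat.of C₁ P₁))) (pt r) ↔
      FlatMod.IsFlatOverAt f' (tilde (R := CommRingCat.of C) (ModuleCat.of C (C ⊗[C₁] P₁))) (pt r) :=
    ⟨S1441.isFlatOverAt_of_iso f' (Ega1.TildePullback.pullbackTildeIso C₁ C P₁) _,
      S1441.isFlatOverAt_of_iso f' (Ega1.TildePullback.pullbackTildeIso C₁ C P₁).symm _⟩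
  rw [← isFlatOverAt_tilde_iff, ← isFlatOverAt_tilde_iff, ← map_pt]
  exact h2.symm.trans h1

end K122.FlatAtDesc
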