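import Groth.Agent.FlatA.NilpotentFree
import Mathlib.RingTheory.LocalRing.ResidueField.Basic
import Mathlib.RingTheory.ReesAlgebra
import Mathlib.LinearAlgebra.TensorProduct.Tower
import Mathlib.RingTheory.Flat.Stability

/-!
# Flattening ideals over a local ring modulo powers of the maximal ideal

* `exists_ideal`: for a module `X` over a local ring `R` and `n : ℕ` there is an ideal `c ⊇ m ^ n` such that for
  every local `R`-algebra `R'` killed by `m ^ n`: `R' ⊗ X` is flat over `R'` iff `c R' = 0`;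
* `exists_stable`: stabilization of an ascending sequence of compatible systems of ideals modulo `m ^ n`.
-/

set_option autoImplicit false
universe u

open TensorProduct IsLocalRing

namespace K122.Flattening

open Groth.Agent

section Nilp

variable {S Y : Type u} [CommRing S] [IsLocalRing S] [AddCommGroup Y] [Module S Y]

theorem isLocalHom_of_isNilpotent (hS : IsNilpotent (maximalIdeal S)) (R' : Type u) [CommRing R']
    [IsLocalRing R'] [Algebra S R'] : IsLocalHom (algebraMap S R') := by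
  refine ⟨fun s hs => ?_⟩
  by_contra hcon
  have h1 : s ∈ maximalIdeal S := (mem_maximalIdeal s).2 hcon
  obtain ⟨n, hn⟩ := hS
  have h2 : s ^ n = 0 := by
    have := Ideal.pow_mem_pow h1 n
    rw [hn] at this
    exact this
  have h3 : (algebraMap S R' s) ^ n = 0 := by rw [← map_pow, h2, map_zero]
  exact (hs.pow n).ne_zero h3

theorem linearIndependent_residue {ι : Type u} (v : ι → Y)
    (hv : LinearIndependent (ResidueField S) (TensorProduct.mk S (ResidueField S) Y 1 ∘ v))
    (hv' : Submodule.span (ResidueField S)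
      (Set.range (TensorProduct.mk S (ResidueField S) Y 1 ∘ v)) = ⊤)
    (R' : Type u) [CommRing R'] [IsLocalRing R'] [Algebra S R'] [IsLocalHom (algebraMap S R')] :
    LinearIndependent (ResidueField R')
      (TensorProduct.mk R' (ResidueField R') (R' ⊗[S] Y) 1 ∘ (fun i => (1 : R') ⊗ₜ[S] v i)) := by
  let κ := ResidueField S
  let κ' := ResidueField R'
  let b : Module.Basis ι κ (κ ⊗[S] Y) := Module.Basis.mk hv hv'.ge
  let e1 : κ' ⊗[κ] (κ ⊗[S] Y) ≃ₗ[κ'] κ' ⊗[S] Y :=
    AlgebraTensorModule.cancelBaseChange S κ κ' κ' Y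
  let e2 : κ' ⊗[R'] (R' ⊗[S] Y) ≃ₗ[κ'] κ' ⊗[S] Y :=
    AlgebraTensorModule.cancelBaseChange S R' κ' κ' Y
  have h1 := (b.baseChange κ').linearIndependent.map' (e2.symm.toLinearMap ∘ₗ e1.toLinearMap)
    (by
      rw [LinearMap.ker_eq_bot]
      exact e2.symm.injective.comp e1.injective)
  have h2 : (TensorProduct.mk R' (ResidueField R') (R' ⊗[S] Y) 1 ∘ (fun i => (1 : R') ⊗ₜ[S] v i)) =
      ((e2.symm.toLinearMap ∘ₗ e1.toLinearMap) ∘ (b.baseChange κ')) := by
    ext i
    rw [Function.comp_apply, Function.comp_apply, Module.Basis.baseChange_apply, Module.Basis.mk_apply]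
    change _ = e2.symm (e1 _)
    rw [LinearEquiv.eq_symm_apply]
    change e2 ((1 : κ') ⊗ₜ[R'] ((1 : R') ⊗ₜ[S] v i)) = e1 ((1 : κ') ⊗ₜ[κ] ((1 : κ) ⊗ₜ[S] v i))
    simp [e1, e2]
  rw [h2]
  exact h1

theorem lTensor_injective_of_ker {F : Type u} [AddCommGroup F] [Module S F] (φ : F →ₗ[S] Y)
    (hφ : Function.Surjective φ) (R' : Type u) [AddCommGroup R'] [Module S R']
    (hz : ∀ (r : R') (k : F), k ∈ LinearMap.ker φ → r ⊗ₜ[S] k = 0) :
    Function.Injective (φ.lTensor R') := by
  rw [injective_iff_map_eq_zero]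
  intro z hz'
  have hex := lTensor_exact R' (LinearMap.exact_subtype_ker_map φ) hφ
  obtain ⟨w, rfl⟩ := (hex z).1 hz'
  clear hz'
  induction w using TensorProduct.induction_on with
  | zero => rw [map_zero]
  | tmul r k =>
    rw [LinearMap.lTensor_tmul]
    exact hz r k k.2
  | add x y hx hy => rw [map_add, hx, hy, add_zero]

theorem exists_ideal_of_isNilpotent (hS : IsNilpotent (maximalIdeal S)) :
    ∃ c : Ideal S, ∀ (R' : Type u) [CommRing R'] [IsLocalRing R'] [Algebra S R'],
      (Module.Flat R' (R' ⊗[S] Y) ↔ c ≤ RingHom.ker (algebraMap S R')) := by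
  obtain ⟨ι, v, hv, hv', hs⟩ := FlatA.NilpotentFree.exists_lift_basis (M := Y) hS
  let φ : (ι →₀ S) →ₗ[S] Y := Finsupp.linearCombination S v
  have hφ : Function.Surjective φ := by
    rw [← LinearMap.range_eq_top, Finsupp.range_linearCombination]
    exact hs
  refine ⟨Ideal.span {s | ∃ k ∈ LinearMap.ker φ, ∃ i, k i = s}, fun R' _ _ _ => ⟨fun h => ?_, fun h => ?_⟩⟩
  · have hloc := isLocalHom_of_isNilpotent hS R'
    have hli : LinearIndependent R' (fun i => (1 : R') ⊗ₜ[S] v i) :=
      Module.IsLocalRing.linearIndependent_of_flat _ (linearIndependent_residue v hv hv' R')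
    rw [Ideal.span_le]
    rintro _ ⟨k, hk, i, rfl⟩
    rw [linearIndependent_iff] at hli
    have h1 := hli (k.mapRange (algebraMap S R') (map_zero _)) (by
      rw [Finsupp.linearCombination_apply, Finsupp.sum_mapRange_index
        (h := fun i (a : R') => a • ((1 : R') ⊗ₜ[S] v i)) (fun i => zero_smul _ _)]
      have h2 : (1 : R') ⊗ₜ[S] (φ k) = 0 := by
        rw [LinearMap.mem_ker] at hk
        rw [hk, TensorProduct.tmul_zero]
      rw [← h2]
      change _ = (1 : R') ⊗ₜ[S] (k.sum fun i a => a • v i)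
      rw [Finsupp.sum, Finsupp.sum, TensorProduct.tmul_sum]
      refine Finset.sum_congr rfl fun j _ => ?_
      rw [TensorProduct.smul_tmul', smul_eq_mul, mul_one, TensorProduct.tmul_smul,
        TensorProduct.smul_tmul', Algebra.smul_def, mul_one])
    have h3 := DFunLike.congr_fun h1 i
    rw [Finsupp.mapRange_apply, Finsupp.zero_apply] at h3
    exact h3
  · have hz : ∀ (r : R') (k : ι →₀ S), k ∈ LinearMap.ker φ → r ⊗ₜ[S] k = 0 := by
      intro r k hk
      rw [← Finsupp.sum_single k, Finsupp.sum, TensorProduct.tmul_sum]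
      refine Finset.sum_eq_zero fun i _ => ?_
      have h1 : (Finsupp.single i (k i) : ι →₀ S) = k i • Finsupp.single i 1 := by simp
      have h2 : algebraMap S R' (k i) = 0 := h (Ideal.subset_span ⟨k, hk, i, rfl⟩)
      rw [h1, TensorProduct.tmul_smul, TensorProduct.smul_tmul', Algebra.smul_def, h2, zero_mul,
        TensorProduct.zero_tmul]
    have hinj : Function.Injective (φ.lTensor R') := lTensor_injective_of_ker φ hφ R' hz
    have hsurj : Function.Surjective (φ.lTensor R') := LinearMap.lTensor_surjective R' hφ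
    let e : R' ⊗[S] (ι →₀ S) ≃ₗ[R'] R' ⊗[S] Y :=
      LinearEquiv.ofBijective (φ.baseChange R') ⟨hinj, hsurj⟩
    exact Module.Flat.of_linearEquiv e.symm

end Nilp

section Gen

variable {R : Type u} [CommRing R] [IsLocalRing R] (X : Type u) [AddCommGroup X] [Module R X]

/-- The universal property of the flattening ideal modulo `m ^ n`. -/
def IsFlattening (n : ℕ) (c : Ideal R) : Prop :=
  (maximalIdeal R) ^ n ≤ c ∧ ∀ (R' : Type u) [CommRing R'] [IsLocalRing R'] [Algebra R R'],
    (maximalIdeal R) ^ n ≤ RingHom.ker (algebraMap R R') →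
      (Module.Flat R' (R' ⊗[R] X) ↔ c ≤ RingHom.ker (algebraMap R R'))

theorem exists_ideal (n : ℕ) : ∃ c : Ideal R, IsFlattening X n c := by
  rcases Nat.eq_zero_or_pos n with rfl | hn
  · refine ⟨⊤, le_top, fun R' _ _ _ h => ?_⟩
    exfalso
    rw [pow_zero, Ideal.one_eq_top] at h
    have h1 : (1 : R) ∈ RingHom.ker (algebraMap R R') := h trivial
    rw [RingHom.mem_ker, map_one] at h1
    exact one_ne_zero h1
  · let m := maximalIdeal R
    let S := R ⧸ m ^ n
    have hle : m ^ n ≤ m := Ideal.pow_le_self hn.ne'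
    have hnt : Nontrivial S := Ideal.Quotient.nontrivial_iff.2 fun h =>
      (maximalIdeal.isMaximal R).ne_top (top_le_iff.1 (h ▸ hle))
    have hS : IsLocalRing S := IsLocalRing.of_surjective' (Ideal.Quotient.mk (m ^ n))
      Ideal.Quotient.mk_surjective
    have hnil : IsNilpotent (maximalIdeal S) := by
      refine ⟨n, ?_⟩
      have h1 : maximalIdeal S ≤ m.map (Ideal.Quotient.mk (m ^ n)) := by
        intro x hx
        obtain ⟨r, rfl⟩ := Ideal.Quotient.mk_surjective x
        refine Ideal.mem_map_of_mem _ ?_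
        rw [mem_maximalIdeal, mem_nonunits_iff] at hx ⊢
        exact fun h => hx (h.map _)
      have h2 := Ideal.pow_right_mono h1 n
      rw [← Ideal.map_pow, Ideal.map_quotient_self] at h2
      exact le_bot_iff.1 h2
    obtain ⟨c, hc⟩ := exists_ideal_of_isNilpotent (S := S) (Y := S ⊗[R] X) hnil
    refine ⟨c.comap (Ideal.Quotient.mk (m ^ n)), ?_, fun R' _ _ _ h => ?_⟩
    · intro r hr
      rw [Ideal.mem_comap, Ideal.Quotient.eq_zero_iff_mem.2 hr]
      exact c.zero_mem
    · let _ : Algebra S R' := (Ideal.Quotient.lift (m ^ n) (algebraMap R R') fun a ha => h ha).toAlgebra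
      have _ : IsScalarTower R S R' := IsScalarTower.of_algebraMap_eq fun _ => rfl
      let e : R' ⊗[S] (S ⊗[R] X) ≃ₗ[R'] R' ⊗[R] X := AlgebraTensorModule.cancelBaseChange R S R' R' X
      have h1 : Module.Flat R' (R' ⊗[R] X) ↔ Module.Flat R' (R' ⊗[S] (S ⊗[R] X)) :=
        ⟨fun _ => Module.Flat.of_linearEquiv e, fun _ => Module.Flat.of_linearEquiv e.symm⟩
      rw [h1, hc R']
      constructor
      · intro h2 r hr
        rw [RingHom.mem_ker, IsScalarTower.algebraMap_apply R S R']
        exact h2 hr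
      · intro h2 s hs
        obtain ⟨r, rfl⟩ := Ideal.Quotient.mk_surjective s
        exact h2 hs

variable {X}

theorem IsFlattening.le_iff {n : ℕ} {c : Ideal R} (hc : IsFlattening X n c) {I : Ideal R}
    (hI : (maximalIdeal R) ^ n ≤ I) (hI' : I ≠ ⊤) :
    c ≤ I ↔ Module.Flat (R ⧸ I) ((R ⧸ I) ⊗[R] X) := by
  have hnt : Nontrivial (R ⧸ I) := Ideal.Quotient.nontrivial_iff.2 hI'
  have hS : IsLocalRing (R ⧸ I) := IsLocalRing.of_surjective' (Ideal.Quotient.mk I)
      Ideal.Quotient.mk_surjective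
  have hker : RingHom.ker (algebraMap R (R ⧸ I)) = I := Ideal.mk_ker
  rw [hc.2 (R ⧸ I) (by rw [hker]; exact hI), hker]

theorem IsFlattening.eq_sup {n : ℕ} {c c' : Ideal R} (hc : IsFlattening X n c)
    (hc' : IsFlattening X (n + 1) c') : c = c' ⊔ (maximalIdeal R) ^ n := by
  have hle : (maximalIdeal R) ^ (n + 1) ≤ (maximalIdeal R) ^ n := Ideal.pow_le_pow_right (Nat.le_succ n)
  apply le_antisymm
  · by_cases htop : c' ⊔ (maximalIdeal R) ^ n = ⊤
    · rw [htop]; exact le_top
    · rw [hc.le_iff le_sup_right htop, ← hc'.le_iff (hle.trans le_sup_right) htop]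
      exact le_sup_left
  · refine sup_le ?_ hc.1
    by_cases htop : c = ⊤
    · rw [htop]; exact le_top
    · rw [hc'.le_iff (hle.trans hc.1) htop, ← hc.le_iff hc.1 htop]

end Gen

section Stable

open Polynomial

variable {R : Type u} [CommRing R] (m : Ideal R) (c : ℕ → Ideal R)

theorem le_sup_of_forall (h1 : ∀ n, c n = c (n + 1) ⊔ m ^ n) (j i : ℕ) : c j ≤ c (j + i) ⊔ m ^ j := by
  induction i with
  | zero => exact le_sup_left
  | succ i ih =>
    refine ih.trans (sup_le ?_ le_sup_right)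
    rw [h1 (j + i)]
    exact sup_le (le_sup_of_le_left le_rfl)
      (le_sup_of_le_right (Ideal.pow_le_pow_right (Nat.le_add_right j i)))

theorem mul_mem (h0 : ∀ n, m ^ n ≤ c n) (h1 : ∀ n, c n = c (n + 1) ⊔ m ^ n) {i j : ℕ} {x y : R}
    (hx : x ∈ m ^ i) (hy : y ∈ c j) : x * y ∈ c (i + j) := by
  obtain ⟨y₁, hy₁, y₂, hy₂, rfl⟩ := Submodule.mem_sup.1 (le_sup_of_forall m c h1 j i hy)
  rw [mul_add]
  refine Ideal.add_mem _ ?_ ?_
  · rw [add_comm i j]
    exact Ideal.mul_mem_left _ _ hy₁
  · exact h0 _ (by rw [pow_add]; exact Ideal.mul_mem_mul hx hy₂)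

/-- The ideal of the Rees algebra attached to a compatible system of ideals modulo `m ^ n`. -/
def reesIdeal (h0 : ∀ n, m ^ n ≤ c n) (h1 : ∀ n, c n = c (n + 1) ⊔ m ^ n) : Ideal (reesAlgebra m) where
  carrier := {f | ∀ n, (f : R[X]).coeff n ∈ c (n + 1)}
  zero_mem' n := by simp
  add_mem' hf hg n := by
    rw [Subalgebra.coe_add, coeff_add]
    exact Ideal.add_mem _ (hf n) (hg n)
  smul_mem' g f hf n := by
    rw [smul_eq_mul, Subalgebra.coe_mul, coeff_mul]
    refine Ideal.sum_mem _ fun ⟨i, j⟩ hij => ?_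
    have h2 := mul_mem m c h0 h1 (g.2 i) (hf j)
    rw [← Finset.mem_antidiagonal.1 hij]
    exact h2

theorem exists_stable [IsNoetherianRing R] (c : ℕ → ℕ → Ideal R) (h0 : ∀ k n, m ^ n ≤ c k n)
    (h1 : ∀ k n, c k n = c k (n + 1) ⊔ m ^ n) (hmono : ∀ j k n, j ≤ k → c j n ≤ c k n) :
    ∃ k₀, ∀ k, k₀ ≤ k → ∀ n, c k n = c k₀ n := by
  let I : ℕ →o Ideal (reesAlgebra m) :=
    { toFun := fun k => reesIdeal m (c k) (h0 k) (h1 k)
      monotone' := fun j k hjk f hf n => hmono j k (n + 1) hjk (hf n) }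
  obtain ⟨k₀, hk₀⟩ := monotone_stabilizes_iff_noetherian.2 inferInstance I
  refine ⟨k₀, fun k hk n => ?_⟩
  induction n with
  | zero =>
    have h2 : ∀ k, c k 0 = ⊤ := fun k => top_le_iff.1 (by
      have := h0 k 0
      rwa [pow_zero, Ideal.one_eq_top] at this)
    rw [h2, h2]
  | succ n ih =>
    refine le_antisymm (fun y hy => ?_) (hmono _ _ _ hk)
    have h2 : y ∈ c k₀ n := by
      rw [← ih, h1 k n]
      exact Ideal.mem_sup_left hy
    rw [h1 k₀ n] at h2
    obtain ⟨y₁, hy₁, y₂, hy₂, rfl⟩ := Submodule.mem_sup.1 h2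
    have h3 : y₂ ∈ c k (n + 1) := by
      have := Ideal.sub_mem _ hy (hmono _ _ _ hk hy₁)
      rwa [add_sub_cancel_left] at this
    let f : reesAlgebra m := ⟨monomial n y₂, reesAlgebra.monomial_mem.2 hy₂⟩
    have h4 : f ∈ I k := by
      intro i
      change (monomial n y₂).coeff i ∈ c k (i + 1)
      rw [coeff_monomial]
      split_ifs with h
      · subst h; exact h3
      · exact Ideal.zero_mem _
    rw [← hk₀ k hk] at h4
    have h5 := h4 n
    change (monomial n y₂).coeff n ∈ c k₀ (n + 1) at h5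
    rw [coeff_monomial_same] at h5
    exact Ideal.add_mem _ hy₁ h5

end Stable

end K122.Flattening
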