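import Groth.Agent.Ega4fib.H173.NormalPoint
import Groth.Agent.Ega4C.NormGeom
import Groth.Agent.Variety.K421.DeltaBC
import Groth.Agent.LoccohB.GorFibre3

/-!
# Geometric normality at a point: finite extensions suffice

* `pnor_of_finite`: `R₀` an algebra over a field `k`, `q` a prime of `R₀`; if for all finite `K / k` the
  local rings of `R₀ ⊗ K` at the primes over `q` are normal domains, then the same holds for all `K`;
* `geomAt_of_finite`: the version for schemes over a field;
* `geomAt_of_finite_fiber`: the version for the fibre of a morphism through a point.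
-/

set_option autoImplicit false
universe u

open TensorProduct CategoryTheory Limits AlgebraicGeometry

namespace K122.GeomNorFin

open Groth.Agent.Ega43.GeomAt Groth.Agent.Ega4fib.H173.NormalPoint Groth.Agent.Ega4C

section Algebra

variable (k R₀ : Type u) [Field k] [CommRing R₀] [Algebra k R₀] (q : Ideal R₀) [q.IsPrime]

/-- If the local rings of `R₀ ⊗ K` at primes over `q` are normal, so is `(R₀)_q ⊗ K`. -/
theorem isNormalRing_loc_tensor (K : Type u) [Field K] [Algebra k K] [Module.Finite k K]
    (h : ∀ (Q : Ideal (R₀ ⊗[k] K)) [Q.IsPrime], Q.comap (algebraMap R₀ (R₀ ⊗[k] K)) = q →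
      PNor (Localization.AtPrime Q)) :
    EGA4.IsNormalRing (Localization.AtPrime q ⊗[k] K) := by
  apply K421.DeltaBC.isNormalRing_of_maximal
  intro N hN
  let _ : Algebra (R₀ ⊗[k] K) (Localization.AtPrime q ⊗[k] K) :=
    (Algebra.TensorProduct.map (IsScalarTower.toAlgHom k R₀ (Localization.AtPrime q))
      (AlgHom.id k K)).toRingHom.toAlgebra
  have hloc : IsLocalization (Algebra.algebraMapSubmonoid (R₀ ⊗[k] K) q.primeCompl)
      (Localization.AtPrime q ⊗[k] K) :=
    Groth.Agent.LoccohB.GorFibre3.isLocalization_tensor K q.primeCompl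
  let Q : Ideal (R₀ ⊗[k] K) := N.comap (algebraMap (R₀ ⊗[k] K) (Localization.AtPrime q ⊗[k] K))
  have hint : Algebra.IsIntegral (Localization.AtPrime q) (Localization.AtPrime q ⊗[k] K) :=
    Algebra.IsIntegral.of_finite _ _
  have hmax : (N.comap (algebraMap (Localization.AtPrime q) (Localization.AtPrime q ⊗[k] K))) =
      IsLocalRing.maximalIdeal (Localization.AtPrime q) :=
    IsLocalRing.eq_maximalIdeal (Ideal.isMaximal_comap_of_isIntegral_of_isMaximal N)
  have hQ : Q.comap (algebraMap R₀ (R₀ ⊗[k] K)) = q := by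
    have h1 : (algebraMap (R₀ ⊗[k] K) (Localization.AtPrime q ⊗[k] K)).comp
        (algebraMap R₀ (R₀ ⊗[k] K)) =
        (algebraMap (Localization.AtPrime q) (Localization.AtPrime q ⊗[k] K)).comp
          (algebraMap R₀ (Localization.AtPrime q)) := by
      ext r
      change (Algebra.TensorProduct.map (IsScalarTower.toAlgHom k R₀ (Localization.AtPrime q))
        (AlgHom.id k K)) (r ⊗ₜ 1) = (algebraMap R₀ (Localization.AtPrime q) r) ⊗ₜ 1
      rw [Algebra.TensorProduct.map_tmul]
      simp
    change (N.comap _).comap _ = q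
    rw [Ideal.comap_comap, h1, ← Ideal.comap_comap, hmax]
    exact IsLocalization.AtPrime.comap_maximalIdeal (Localization.AtPrime q) q
  have h2 := h Q hQ
  have h3 : IsLocalization.AtPrime (Localization.AtPrime N) Q :=
    IsLocalization.isLocalization_isLocalization_atPrime_isLocalization
      (Algebra.algebraMapSubmonoid (R₀ ⊗[k] K) q.primeCompl) (Localization.AtPrime N) N
  let e : Localization.AtPrime Q ≃ₐ[R₀ ⊗[k] K] Localization.AtPrime N :=
    IsLocalization.algEquiv Q.primeCompl _ _
  exact isoClosed_PNor _ _ e.toRingEquiv h2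

/-- Finite extensions suffice for geometric normality at a prime. -/
theorem pnor_of_finite
    (h : ∀ (K : Type u) [Field K] [Algebra k K], Module.Finite k K →
      ∀ (Q : Ideal (R₀ ⊗[k] K)) [Q.IsPrime], Q.comap (algebraMap R₀ (R₀ ⊗[k] K)) = q →
        PNor (Localization.AtPrime Q)) :
    GeomAtAlg (fun R _ => PNor R) k R₀ q := by
  have h1 : EGA4.IsGeomNormal k (Localization.AtPrime q) := by
    intro K _ _ hK
    exact NormUnion.isNormalRing_of_ringEquiv
      (Algebra.TensorProduct.comm k K (Localization.AtPrime q)).toRingEquiv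
      (isNormalRing_loc_tensor k R₀ q K (h K hK))
  intro K _ _ Q _ hQ
  have h2 := NormGeom.isNormalRing_tensor_of_isGeomNormal k (Localization.AtPrime q) h1 K
  have h3 : EGA4.IsNormalRing (Localization.AtPrime q ⊗[k] K) :=
    NormUnion.isNormalRing_of_ringEquiv
      (Algebra.TensorProduct.comm k (Localization.AtPrime q) K).toRingEquiv h2
  let _ : Algebra (R₀ ⊗[k] K) (Localization.AtPrime q ⊗[k] K) :=
    (Algebra.TensorProduct.map (IsScalarTower.toAlgHom k R₀ (Localization.AtPrime q))
      (AlgHom.id k K)).toRingHom.toAlgebra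
  have hloc : IsLocalization (Algebra.algebraMapSubmonoid (R₀ ⊗[k] K) q.primeCompl)
      (Localization.AtPrime q ⊗[k] K) :=
    Groth.Agent.LoccohB.GorFibre3.isLocalization_tensor K q.primeCompl
  have hdisj : Disjoint (Algebra.algebraMapSubmonoid (R₀ ⊗[k] K) q.primeCompl : Set (R₀ ⊗[k] K))
      (Q : Set (R₀ ⊗[k] K)) := by
    rw [Set.disjoint_left]
    rintro _ ⟨r, hr, rfl⟩ h4
    apply hr
    rw [← hQ]
    exact h4
  let N : Ideal (Localization.AtPrime q ⊗[k] K) :=
    Q.map (algebraMap (R₀ ⊗[k] K) (Localization.AtPrime q ⊗[k] K))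
  have hN : N.IsPrime := IsLocalization.isPrime_of_isPrime_disjoint
    (Algebra.algebraMapSubmonoid (R₀ ⊗[k] K) q.primeCompl) _ Q inferInstance hdisj
  have hcomap : N.comap (algebraMap (R₀ ⊗[k] K) (Localization.AtPrime q ⊗[k] K)) = Q :=
    IsLocalization.under_map_of_isPrime_disjoint
      (Algebra.algebraMapSubmonoid (R₀ ⊗[k] K) q.primeCompl) _ inferInstance hdisj
  have h5 : IsLocalization.AtPrime (Localization.AtPrime N)
      (N.comap (algebraMap (R₀ ⊗[k] K) (Localization.AtPrime q ⊗[k] K))) :=
    IsLocalization.isLocalization_isLocalization_atPrime_isLocalization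
      (Algebra.algebraMapSubmonoid (R₀ ⊗[k] K) q.primeCompl) (Localization.AtPrime N) N
  have h6 : IsLocalization.AtPrime (Localization.AtPrime N) Q := by
    have h7 : ∀ (I : Ideal (R₀ ⊗[k] K)) [I.IsPrime] (_ : I = Q),
        IsLocalization.AtPrime (Localization.AtPrime N) I →
        IsLocalization.AtPrime (Localization.AtPrime N) Q := by
      intro I _ hI h8
      subst hI
      exact h8
    exact h7 _ hcomap h5
  let e : Localization.AtPrime Q ≃ₐ[R₀ ⊗[k] K] Localization.AtPrime N :=
    IsLocalization.algEquiv Q.primeCompl _ _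
  exact isoClosed_PNor _ _ e.toRingEquiv.symm (h3 N)

end Algebra

section Scheme

variable {k : Type u} [Field k] {X : Scheme.{u}}

/-- Finite extensions suffice for geometric normality at a point of a scheme over a field. -/
theorem geomAt_of_finite (g : X ⟶ Spec (CommRingCat.of k)) (x : X)
    (h : ∀ (K : Type u) [Field K] [Algebra k K], Module.Finite k K →
      ∀ x' : ↥(FBase.bc g K), (FBase.bcπ g K).base x' = x → PNor ((FBase.bc g K).presheaf.stalk x')) :
    GeomAt (fun R _ => PNor R) g x := by
  obtain ⟨U, hU, hxU, -⟩ := exists_isAffineOpen_mem_and_subset (x := x) (U := (⊤ : X.Opens)) trivial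
  let R₀ := Γ(X, U)
  let i : Spec (CommRingCat.of R₀) ⟶ X := hU.fromSpec
  have hi : IsOpenImmersion i := inferInstance
  obtain ⟨u, hu⟩ : ∃ u, i.base u = x := by
    have h1 : x ∈ Set.range hU.fromSpec.base := by
      rw [hU.range_fromSpec]
      exact hxU
    exact h1
  obtain ⟨φ, hφ⟩ := Spec.map_surjective (i ≫ g)
  let _ : Algebra k R₀ := φ.hom.toAlgebra
  have hφ' : i ≫ g = Spec.map (CommRingCat.ofHom (algebraMap k R₀)) := hφ.symm
  rw [← hu, ← geomAt_comp_openImmersion isoClosed_PNor, hφ']
  refine (geomAt_Spec_iff isoClosed_PNor k R₀ u).2 (pnor_of_finite k R₀ u.asIdeal ?_)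
  intro K _ _ hK Q hQp hQ
  have hpb : IsPullback
      (Spec.map (CommRingCat.ofHom (algebraMap R₀ (R₀ ⊗[k] K))))
      (Spec.map (CommRingCat.ofHom (Algebra.TensorProduct.includeRight (R := k) (A := R₀)
        (B := K)).toRingHom))
      (Spec.map (CommRingCat.ofHom (algebraMap k R₀))) (Spec.map (CommRingCat.ofHom (algebraMap k K))) :=
    isPullback_SpecMap_of_isPushout _ _ _ _ (CommRingCat.isPushout_tensorProduct k R₀ K)
  rw [← hφ'] at hpb
  let j := Spec.map (CommRingCat.ofHom (algebraMap k K))
  let a := Spec.map (CommRingCat.ofHom (algebraMap R₀ (R₀ ⊗[k] K)))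
  let b := Spec.map (CommRingCat.ofHom (Algebra.TensorProduct.includeRight (R := k) (A := R₀)
        (B := K)).toRingHom)
  let ι : Spec (CommRingCat.of (R₀ ⊗[k] K)) ⟶ pullback g j :=
    pullback.lift (a ≫ i) b (by rw [Category.assoc]; exact hpb.w)
  have h1 : IsPullback a ι i (pullback.fst g j) := by
    refine IsPullback.of_bot ?_ (pullback.lift_fst _ _ _).symm (IsPullback.of_hasPullback g j)
    rw [pullback.lift_snd]
    exact hpb
  have : IsOpenImmersion ι := MorphismProperty.of_isPullback (P := @IsOpenImmersion) h1 inferInstance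
  let z : ↥(Spec (CommRingCat.of (R₀ ⊗[k] K))) := (⟨Q, hQp⟩ : PrimeSpectrum (R₀ ⊗[k] K))
  have hz : a.base z = u := PrimeSpectrum.ext hQ
  have h2 := h K hK (ι.base z) (by
    change (pullback.fst g j).base (ι.base z) = x
    rw [← Scheme.Hom.comp_apply, pullback.lift_fst, Scheme.Hom.comp_apply, hz, hu])
  have h3 : PNor ((Spec (CommRingCat.of (R₀ ⊗[k] K))).presheaf.stalk z) :=
    (stalk_iff_of_isOpenImmersion isoClosed_PNor ι z).1 h2
  exact (stalk_Spec_iff isoClosed_PNor _ ⟨Q, hQp⟩).1 h3

/-- Finite extensions suffice for geometric normality of the fibre at a point. -/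
theorem geomAt_of_finite_fiber {X Y : Scheme.{u}} (f : X ⟶ Y) (x : X)
    (hnorm : ∀ (K : Type u) [Field K] [Algebra (IsLocalRing.ResidueField ↑(Y.presheaf.stalk (f x))) K],
      Module.Finite (IsLocalRing.ResidueField ↑(Y.presheaf.stalk (f x))) K →
      ∀ x' : ↥(FBase.bc (f.fiberToSpecResidueField (f x)) K),
        FBase.bcπ (f.fiberToSpecResidueField (f x)) K x' = f.asFiber x →
        IsDomain ↑((FBase.bc (f.fiberToSpecResidueField (f x)) K).presheaf.stalk x') ∧
          IsIntegrallyClosed ↑((FBase.bc (f.fiberToSpecResidueField (f x)) K).presheaf.stalk x')) :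
    GeomAt (fun R _ => PNor R) f x := by
  rw [← geomAt_fiber_iff isoClosed_PNor f x]
  have h1 := geomAt_of_finite (k := IsLocalRing.ResidueField ↑(Y.presheaf.stalk (f x)))
    (f.fiberToSpecResidueField (f x)) (f.asFiber x) hnorm
  intro K _ _ x' hx'
  exact h1 K _ _ _ _ (IsPullback.of_hasPullback _ _) x' hx'

/-- Conversely. -/
theorem finite_fiber_of_geomAt {X Y : Scheme.{u}} (f : X ⟶ Y) (x : X)
    (h : GeomAt (fun R _ => PNor R) f x)
    (K : Type u) [Field K] [Algebra (IsLocalRing.ResidueField ↑(Y.presheaf.stalk (f x))) K]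
    (_ : Module.Finite (IsLocalRing.ResidueField ↑(Y.presheaf.stalk (f x))) K)
    (x' : ↥(FBase.bc (f.fiberToSpecResidueField (f x)) K))
    (hx' : FBase.bcπ (f.fiberToSpecResidueField (f x)) K x' = f.asFiber x) :
    IsDomain ↑((FBase.bc (f.fiberToSpecResidueField (f x)) K).presheaf.stalk x') ∧
      IsIntegrallyClosed ↑((FBase.bc (f.fiberToSpecResidueField (f x)) K).presheaf.stalk x') :=
  (geomAt_fiber_iff isoClosed_PNor f x).2 h K x' hx'

end Scheme

end K122.GeomNorFin
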