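import Groth.Agent.S8368
import Groth.Agent.Ega43.FibSpec
import Groth.Agent.S2683
import Mathlib.RingTheory.Flat.Equalizer

/-!
# Base change of the graded pieces `J ^ k M ⧸ J ^ (k + 1) M` when `M ⧸ J ^ k M` is flat over the base

* `exists_restrict_isBaseChange`: for a submodule `N₁` of `M₁` with `M₁ ⧸ N₁` flat over `A₁`, the submodule
  of the base change spanned by `N₁` is the base change of `N₁`;
* `exists_isBaseChange_gr`: the same for the graded pieces, as modules over `B ⧸ J`.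
-/

set_option autoImplicit false
universe u

open TensorProduct

namespace K122.GrBC

open Groth.Agent

section Sub

variable {A₁ A B₁ B : Type u} [CommRing A₁] [CommRing A] [CommRing B₁] [CommRing B]
  [Algebra A₁ A] [Algebra A₁ B₁] [Algebra A B] [Algebra B₁ B] [Algebra A₁ B]
  [IsScalarTower A₁ A B] [IsScalarTower A₁ B₁ B] [Algebra.IsPushout A₁ A B₁ B]
  {M₁ M : Type u} [AddCommGroup M₁] [Module B₁ M₁] [Module A₁ M₁] [IsScalarTower A₁ B₁ M₁]
  [AddCommGroup M] [Module B M] [Module B₁ M] [IsScalarTower B₁ B M]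

variable (A) in
include A in
/-- injectivity of `B ⊗ N₁ → B ⊗ M₁`. -/
theorem lTensor_injective (N₁ : Submodule B₁ M₁) (hflat : Module.Flat A₁ (M₁ ⧸ N₁)) :
    Function.Injective (N₁.subtype.lTensor B) := by
  have h1 : Function.Injective ((N₁.subtype.restrictScalars A₁).lTensor A) :=
    LinearMap.lTensor_injective_of_exact_of_flat (P := M₁ ⧸ N₁) (N₁.mkQ.restrictScalars A₁)
      N₁.mkQ_surjective (N₁.subtype.restrictScalars A₁) N₁.injective_subtype
      (LinearMap.exact_subtype_mkQ N₁) A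
  let e₁ := (Algebra.IsPushout.cancelBaseChange A₁ A B₁ B N₁).symm
  let e₂ := (Algebra.IsPushout.cancelBaseChange A₁ A B₁ B M₁).symm
  have h2 : ∀ x : A ⊗[A₁] N₁, N₁.subtype.lTensor B (e₁ x) =
      e₂ ((N₁.subtype.restrictScalars A₁).lTensor A x) := by
    intro x
    induction x using TensorProduct.induction_on with
    | zero => simp
    | tmul a n =>
      have h3 : e₁ (a ⊗ₜ n) = algebraMap A B a ⊗ₜ n :=
        Algebra.IsPushout.cancelBaseChange_symm_tmul A₁ A B₁ B N₁ a n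
      have h4 : e₂ (a ⊗ₜ (n : M₁)) = algebraMap A B a ⊗ₜ (n : M₁) :=
        Algebra.IsPushout.cancelBaseChange_symm_tmul A₁ A B₁ B M₁ a (n : M₁)
      rw [h3]
      exact h4.symm
    | add x y hx hy => rw [map_add, map_add, hx, hy, map_add, map_add]
  intro x y hxy
  obtain ⟨x, rfl⟩ := e₁.surjective x
  obtain ⟨y, rfl⟩ := e₁.surjective y
  rw [h2, h2] at hxy
  rw [h1 (e₂.injective hxy)]

variable (A) in
include A in
/-- The span of `N₁` in the base change is the base change of `N₁`. -/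
theorem exists_restrict_isBaseChange (g : M₁ →ₗ[B₁] M) (hg : IsBaseChange B g)
    (N₁ : Submodule B₁ M₁) (hflat : Module.Flat A₁ (M₁ ⧸ N₁)) (N : Submodule B M)
    (hN : N = Submodule.span B (g '' N₁)) :
    ∃ gN : N₁ →ₗ[B₁] N, (∀ x, (gN x : M) = g x) ∧ IsBaseChange B gN := by
  have hmem : ∀ x : N₁, g x ∈ N := fun x => by
    rw [hN]
    exact Submodule.subset_span ⟨x, x.2, rfl⟩
  let gN : N₁ →ₗ[B₁] N :=
    { toFun := fun x => ⟨g x, hmem x⟩
      map_add' := fun x y => Subtype.ext (by simp)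
      map_smul' := fun b x => Subtype.ext (by simp) }
  refine ⟨gN, fun _ => rfl, ?_⟩
  let Φ : B ⊗[B₁] N₁ →ₗ[B] N := TensorProduct.AlgebraTensorModule.lift
    (((LinearMap.toSpanSingleton B (N₁ →ₗ[B₁] N) gN).restrictScalars B))
  have hΦ : ∀ (b : B) (x : N₁), Φ (b ⊗ₜ x) = b • gN x := fun b x => rfl
  have hΦ' : ∀ x : B ⊗[B₁] N₁, (Φ x : M) = hg.equiv (N₁.subtype.lTensor B x) := by
    intro x
    induction x using TensorProduct.induction_on with
    | zero => simp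
    | tmul b n =>
      rw [hΦ, LinearMap.lTensor_tmul, IsBaseChange.equiv_tmul]
      rfl
    | add x y hx hy => rw [map_add, map_add, map_add, Submodule.coe_add, hx, hy]
  have hbij : Function.Bijective Φ := by
    constructor
    · intro x y hxy
      apply lTensor_injective (B := B) A N₁ hflat
      apply hg.equiv.injective
      rw [← hΦ', ← hΦ', hxy]
    · rintro ⟨m, hm⟩
      have key : ∀ m ∈ N, ∃ x, (Φ x : M) = m := by
        intro m hm
        rw [hN] at hm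
        induction hm using Submodule.span_induction with
        | mem m hm =>
          obtain ⟨x, hx, rfl⟩ := hm
          refine ⟨1 ⊗ₜ ⟨x, hx⟩, ?_⟩
          rw [hΦ, one_smul]
          rfl
        | zero => exact ⟨0, by rw [map_zero]; rfl⟩
        | add m m' _ _ h1 h2 =>
          obtain ⟨x, rfl⟩ := h1
          obtain ⟨y, rfl⟩ := h2
          exact ⟨x + y, by rw [map_add]; rfl⟩
        | smul b m _ h1 =>
          obtain ⟨x, rfl⟩ := h1
          exact ⟨b • x, by rw [map_smul]; rfl⟩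
      obtain ⟨x, hx⟩ := key m hm
      exact ⟨x, Subtype.ext hx⟩
  refine IsBaseChange.of_equiv (LinearEquiv.ofBijective Φ hbij) fun x => ?_
  rw [LinearEquiv.ofBijective_apply, hΦ, one_smul]

omit [Module A₁ M₁] [IsScalarTower A₁ B₁ M₁] [Algebra A₁ A] [Algebra A₁ B₁] [Algebra A B]
  [Algebra A₁ B] [IsScalarTower A₁ A B] [IsScalarTower A₁ B₁ B] [Algebra.IsPushout A₁ A B₁ B] in
theorem map_smul_top_eq_span (g : M₁ →ₗ[B₁] M) (hg : IsBaseChange B g) (I : Ideal B₁) :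
    (I.map (algebraMap B₁ B)) • (⊤ : Submodule B M) =
      Submodule.span B (g '' ((I • (⊤ : Submodule B₁ M₁) : Submodule B₁ M₁) : Set M₁)) := by
  have htop : (⊤ : Submodule B M) = Submodule.span B (Set.range g) := by
    symm
    rw [eq_top_iff]
    rintro m -
    obtain ⟨x, rfl⟩ := hg.equiv.surjective m
    induction x using TensorProduct.induction_on with
    | zero => simp
    | tmul b n =>
      rw [IsBaseChange.equiv_tmul]
      exact Submodule.smul_mem _ _ (Submodule.subset_span ⟨n, rfl⟩)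
    | add x y hx hy => rw [map_add]; exact Submodule.add_mem _ hx hy
  apply le_antisymm
  · rw [htop, Ideal.map, Submodule.span_smul_span, Submodule.span_le]
    rintro _ ⟨_, ⟨a, ha, rfl⟩, _, ⟨m, rfl⟩, rfl⟩
    apply Submodule.subset_span
    refine ⟨a • m, Submodule.smul_mem_smul ha Submodule.mem_top, ?_⟩
    change g (a • m) = algebraMap B₁ B a • g m
    rw [map_smul, algebraMap_smul]
  · rw [Submodule.span_le]
    rintro _ ⟨m, hm, rfl⟩
    rw [SetLike.mem_coe] at hm ⊢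
    refine Submodule.smul_induction_on hm (fun a ha m _ => ?_) (fun x y hx hy => ?_)
    · rw [map_smul, ← algebraMap_smul B a (g m)]
      exact Submodule.smul_mem_smul (Ideal.mem_map_of_mem _ ha) Submodule.mem_top
    · rw [map_add]
      exact Submodule.add_mem _ hx hy

end Sub

section Quot

variable {B₁ B : Type u} [CommRing B₁] [CommRing B] [Algebra B₁ B] (J₁ : Ideal B₁)
  {X₁ X : Type u} [AddCommGroup X₁] [Module B₁ X₁]
  [AddCommGroup X] [Module B X] [Module B₁ X] [IsScalarTower B₁ B X]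

/-- Base change of `X₁ ⧸ J₁ X₁`. -/
theorem nonempty_quotEquiv (h : X₁ →ₗ[B₁] X) (hh : IsBaseChange B h) :
    Nonempty ((B ⧸ J₁.map (algebraMap B₁ B)) ⊗[B₁ ⧸ J₁] (X₁ ⧸ (J₁ • (⊤ : Submodule B₁ X₁)))
      ≃ₗ[B ⧸ J₁.map (algebraMap B₁ B)]
        (X ⧸ ((J₁.map (algebraMap B₁ B)) • (⊤ : Submodule B X)))) := by
  let C₁ := B₁ ⧸ J₁
  let C := B ⧸ J₁.map (algebraMap B₁ B)
  let e1 : C ⊗[C₁] (C₁ ⊗[B₁] X₁) ≃ₗ[C] C ⊗[C₁] (X₁ ⧸ (J₁ • (⊤ : Submodule B₁ X₁))) :=
    TensorProduct.AlgebraTensorModule.congr (LinearEquiv.refl C C)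
      (Ega43.FibSpec.isBaseChange_mkQ J₁ X₁).equiv
  let e2 : C ⊗[C₁] (C₁ ⊗[B₁] X₁) ≃ₗ[C] C ⊗[B₁] X₁ :=
    AlgebraTensorModule.cancelBaseChange B₁ C₁ C C X₁
  let e3 : C ⊗[B] (B ⊗[B₁] X₁) ≃ₗ[C] C ⊗[B₁] X₁ :=
    AlgebraTensorModule.cancelBaseChange B₁ B C C X₁
  let e4 : C ⊗[B] (B ⊗[B₁] X₁) ≃ₗ[C] C ⊗[B] X :=
    TensorProduct.AlgebraTensorModule.congr (LinearEquiv.refl C C) hh.equiv
  let e5 : C ⊗[B] X ≃ₗ[C] (X ⧸ ((J₁.map (algebraMap B₁ B)) • (⊤ : Submodule B X))) :=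
    (Ega43.FibSpec.isBaseChange_mkQ (J₁.map (algebraMap B₁ B)) X).equiv
  exact ⟨e1.symm ≪≫ₗ e2 ≪≫ₗ e3.symm ≪≫ₗ e4 ≪≫ₗ e5⟩

end Quot

section Gr

variable {A₁ A B₁ B : Type u} [CommRing A₁] [CommRing A] [CommRing B₁] [CommRing B]
  [Algebra A₁ A] [Algebra A₁ B₁] [Algebra A B] [Algebra B₁ B] [Algebra A₁ B]
  [IsScalarTower A₁ A B] [IsScalarTower A₁ B₁ B] [Algebra.IsPushout A₁ A B₁ B]
  {M₁ M : Type u} [AddCommGroup M₁] [Module B₁ M₁] [Module A₁ M₁] [IsScalarTower A₁ B₁ M₁]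
  [AddCommGroup M] [Module B M] [Module B₁ M] [IsScalarTower B₁ B M]

variable (A) in
include A in
/-- The graded pieces of the base change. -/
theorem nonempty_grEquiv (J₁ : Ideal B₁) (g : M₁ →ₗ[B₁] M) (hg : IsBaseChange B g) (k : ℕ)
    (hflat : Module.Flat A₁ (M₁ ⧸ (J₁ ^ k • (⊤ : Submodule B₁ M₁)))) :
    Nonempty ((B ⧸ J₁.map (algebraMap B₁ B)) ⊗[B₁ ⧸ J₁] S2683.gr J₁ M₁ k
      ≃ₗ[B ⧸ J₁.map (algebraMap B₁ B)] S2683.gr (J₁.map (algebraMap B₁ B)) M k) := by
  obtain ⟨gN, -, h2⟩ := exists_restrict_isBaseChange A g hg (J₁ ^ k • (⊤ : Submodule B₁ M₁)) hflat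
    ((J₁.map (algebraMap B₁ B)) ^ k • (⊤ : Submodule B M)) (by
      rw [← Ideal.map_pow, map_smul_top_eq_span g hg])
  exact nonempty_quotEquiv J₁ gN h2

end Gr

section Push

variable {A₁ A B₁ B : Type u} [CommRing A₁] [CommRing A] [CommRing B₁] [CommRing B]
  [Algebra A₁ A] [Algebra A₁ B₁] [Algebra A B] [Algebra B₁ B] [Algebra A₁ B]
  [IsScalarTower A₁ A B] [IsScalarTower A₁ B₁ B]

omit [Algebra A₁ A] [Algebra A B] [IsScalarTower A₁ A B] [CommRing A] in
theorem isScalarTower_quot (J₁ : Ideal B₁) :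
    IsScalarTower A₁ (B₁ ⧸ J₁) (B ⧸ J₁.map (algebraMap B₁ B)) :=
  IsScalarTower.of_algebraMap_eq fun a => by
    rw [IsScalarTower.algebraMap_apply A₁ B₁ (B₁ ⧸ J₁), ← IsScalarTower.algebraMap_apply B₁ (B₁ ⧸ J₁),
      IsScalarTower.algebraMap_apply B₁ B (B ⧸ J₁.map (algebraMap B₁ B)),
      ← IsScalarTower.algebraMap_apply A₁ B₁ B, ← IsScalarTower.algebraMap_apply A₁ B]

attribute [local instance] isScalarTower_quot

/-- The quotients are a pushout. -/
theorem isPushout_quot [Algebra.IsPushout A₁ A B₁ B] (J₁ : Ideal B₁) :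
    Algebra.IsPushout A₁ A (B₁ ⧸ J₁) (B ⧸ J₁.map (algebraMap B₁ B)) := by
  have h1 : Algebra.IsPushout B₁ (B₁ ⧸ J₁) B (B ⧸ J₁.map (algebraMap B₁ B)) :=
    S8368.isPushout B₁ B J₁
  have h2 : Algebra.IsPushout A₁ B₁ A B := Algebra.IsPushout.symm inferInstance
  have h3 : Algebra.IsPushout A₁ (B₁ ⧸ J₁) A (B ⧸ J₁.map (algebraMap B₁ B)) :=
    (Algebra.IsPushout.comp_iff (R := A₁) (S := B₁) (R' := A) (S' := B)
      (T := (B₁ ⧸ J₁)) (T' := (B ⧸ J₁.map (algebraMap B₁ B)))).2 h1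
  exact h3.symm

end Push

end K122.GrBC
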