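import Groth.Agent.EGA43.K122.GrBC
import Groth.Prelude.Def_FlatCA
import Mathlib.RingTheory.Adjoin.FG

/-!
# The two forms of the truncations `M ⧸ J ^ k M` of a base change

* `flat_quot_iff`: `B'` the pushout of `A'` and `B₀` over `A₀`, `M'` the base change of `M₀` to `B'`,
  `J' = J₀ B'`: `M' ⧸ J' ^ k M'` is flat over `A'` iff the quotient of `A' ⊗ M₀` by the image of
  `A' ⊗ J₀ ^ k M₀` is;
* `isDirectedColimitRing_adjoin`: `A` is the directed colimit of its finitely generated subalgebras.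
-/

set_option autoImplicit false
universe u

open TensorProduct

namespace K122.GrStage

open Groth.Agent

section Stage

variable {A₀ A' B₀ B' : Type u} [CommRing A₀] [CommRing A'] [CommRing B₀] [CommRing B']
  [Algebra A₀ A'] [Algebra A₀ B₀] [Algebra A' B'] [Algebra B₀ B'] [Algebra A₀ B']
  [IsScalarTower A₀ A' B'] [IsScalarTower A₀ B₀ B'] [Algebra.IsPushout A₀ A' B₀ B']
  {M₀ M' : Type u} [AddCommGroup M₀] [Module B₀ M₀] [Module A₀ M₀] [IsScalarTower A₀ B₀ M₀]
  [AddCommGroup M'] [Module B' M'] [Module B₀ M'] [IsScalarTower B₀ B' M'] [Module A' M']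
  [IsScalarTower A' B' M']

/-- The isomorphism `A' ⊗ M₀ = M'`. -/
noncomputable def stageEquiv (g : M₀ →ₗ[B₀] M') (hg : IsBaseChange B' g) :
    A' ⊗[A₀] M₀ ≃ₗ[A'] M' :=
  (Algebra.IsPushout.cancelBaseChange A₀ A' B₀ B' M₀).symm ≪≫ₗ hg.equiv.restrictScalars A'

theorem stageEquiv_tmul (g : M₀ →ₗ[B₀] M') (hg : IsBaseChange B' g) (a : A') (m : M₀) :
    stageEquiv (A₀ := A₀) g hg (a ⊗ₜ m) = a • g m := by
  have h1 : (Algebra.IsPushout.cancelBaseChange A₀ A' B₀ B' M₀).symm (a ⊗ₜ m) =
      algebraMap A' B' a ⊗ₜ m := Algebra.IsPushout.cancelBaseChange_symm_tmul A₀ A' B₀ B' M₀ a m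
  change hg.equiv ((Algebra.IsPushout.cancelBaseChange A₀ A' B₀ B' M₀).symm (a ⊗ₜ m)) = _
  rw [h1, IsBaseChange.equiv_tmul, algebraMap_smul]

theorem map_range_eq (g : M₀ →ₗ[B₀] M') (hg : IsBaseChange B' g) (N₀ : Submodule B₀ M₀) :
    (LinearMap.range ((N₀.restrictScalars A₀).subtype.baseChange A')).map
      (stageEquiv (A₀ := A₀) (A' := A') g hg : A' ⊗[A₀] M₀ →ₗ[A'] M') =
      (Submodule.span B' (g '' (N₀ : Set M₀))).restrictScalars A' := by
  apply le_antisymm
  · rintro _ ⟨_, ⟨x, rfl⟩, rfl⟩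
    rw [Submodule.restrictScalars_mem]
    induction x using TensorProduct.induction_on with
    | zero => simp
    | tmul a n =>
      have h1 : ((stageEquiv (A₀ := A₀) (A' := A') g hg : A' ⊗[A₀] M₀ →ₗ[A'] M')
          (((N₀.restrictScalars A₀).subtype.baseChange A') (a ⊗ₜ n))) = a • g (n : M₀) :=
        stageEquiv_tmul g hg a (n : M₀)
      rw [h1, ← algebraMap_smul B' a]
      exact Submodule.smul_mem _ _ (Submodule.subset_span ⟨n, n.2, rfl⟩)
    | add x y hx hy => rw [map_add, map_add]; exact Submodule.add_mem _ hx hy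
  · intro m hm
    rw [Submodule.restrictScalars_mem] at hm
    induction hm using Submodule.span_induction with
    | mem m hm =>
      obtain ⟨x, hx, rfl⟩ := hm
      refine ⟨_, ⟨1 ⊗ₜ ⟨x, hx⟩, rfl⟩, ?_⟩
      exact (stageEquiv_tmul g hg 1 x).trans (one_smul _ _)
    | zero => exact Submodule.zero_mem _
    | add m m' _ _ h1 h2 => exact Submodule.add_mem _ h1 h2
    | smul b m hm' h1 =>
      clear hm'
      obtain ⟨_, ⟨x, rfl⟩, rfl⟩ := h1
      obtain ⟨b, rfl⟩ := (Algebra.IsPushout.equiv A₀ A' B₀ B').surjective b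
      induction b using TensorProduct.induction_on with
      | zero => simp
      | tmul a b =>
        induction x using TensorProduct.induction_on with
        | zero => simp
        | tmul c n =>
          refine ⟨_, ⟨(a * c) ⊗ₜ ⟨b • (n : M₀), N₀.smul_mem b n.2⟩, rfl⟩, ?_⟩
          refine (stageEquiv_tmul g hg (a * c) (b • (n : M₀))).trans ?_
          have h2 : ((stageEquiv (A₀ := A₀) (A' := A') g hg : A' ⊗[A₀] M₀ →ₗ[A'] M')
              (((N₀.restrictScalars A₀).subtype.baseChange A') (c ⊗ₜ n))) = c • g (n : M₀) :=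
            stageEquiv_tmul g hg c (n : M₀)
          rw [h2, Algebra.IsPushout.equiv_tmul, map_smul, ← algebraMap_smul B' b (g n),
            ← algebraMap_smul B' (a * c), ← algebraMap_smul B' c, smul_smul, smul_smul, map_mul]
          congr 1
          ring
        | add x y hx hy =>
          rw [map_add, map_add, smul_add]
          exact Submodule.add_mem _ hx hy
      | add b b' hb hb' =>
        rw [map_add, add_smul]
        exact Submodule.add_mem _ hb hb'

theorem flat_quot_iff (J₀ : Ideal B₀) (g : M₀ →ₗ[B₀] M') (hg : IsBaseChange B' g) (k : ℕ) :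
    Module.Flat A' ((A' ⊗[A₀] M₀) ⧸
      LinearMap.range (((J₀ ^ k • (⊤ : Submodule B₀ M₀)).restrictScalars A₀).subtype.baseChange A')) ↔
    Module.Flat A' (M' ⧸ ((J₀.map (algebraMap B₀ B')) ^ k • (⊤ : Submodule B' M'))) := by
  have h1 : (LinearMap.range (((J₀ ^ k • (⊤ : Submodule B₀ M₀)).restrictScalars
      A₀).subtype.baseChange A')).map
      (stageEquiv (A₀ := A₀) (A' := A') g hg : A' ⊗[A₀] M₀ →ₗ[A'] M') =
      ((J₀.map (algebraMap B₀ B')) ^ k • (⊤ : Submodule B' M')).restrictScalars A' := by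
    rw [map_range_eq, ← Ideal.map_pow, K122.GrBC.map_smul_top_eq_span g hg]
  let e := Submodule.Quotient.equiv _ _ (stageEquiv (A₀ := A₀) (A' := A') g hg) h1
  let e' : (M' ⧸ ((J₀.map (algebraMap B₀ B')) ^ k • (⊤ : Submodule B' M')).restrictScalars A') ≃ₗ[A']
      (M' ⧸ ((J₀.map (algebraMap B₀ B')) ^ k • (⊤ : Submodule B' M'))) :=
    Submodule.Quotient.restrictScalarsEquiv A' _
  exact ⟨fun h => Module.Flat.of_linearEquiv (e ≪≫ₗ e').symm,
    fun h => Module.Flat.of_linearEquiv (e ≪≫ₗ e')⟩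

end Stage

section Colim

variable (A₀ A : Type u) [CommRing A₀] [CommRing A] [Algebra A₀ A]

/-- `A` is the directed colimit of the subalgebras generated by its finite subsets. -/
theorem isDirectedColimitRing_adjoin :
    FlatCA.IsDirectedColimitRing (fun s : Finset A => ↥(Algebra.adjoin A₀ (s : Set A)))
      (fun _ _ h => (Subalgebra.inclusion (Algebra.adjoin_mono (Finset.coe_subset.2 h))).toRingHom)
      A := by
  classical
  refine ⟨inferInstance, inferInstance, fun i => ?_, fun i j k hij hjk => ?_, fun i j h => ?_,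
    fun a => ?_, fun i x hx => ?_⟩
  · ext x; rfl
  · ext x; rfl
  · ext x; rfl
  · exact ⟨{a}, ⟨a, Algebra.subset_adjoin (by simp)⟩, rfl⟩
  · refine ⟨i, le_rfl, ?_⟩
    have h1 : (x : A) = 0 := hx
    exact Subtype.ext h1

end Colim

end K122.GrStage
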