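import Groth.Agent.EGA43.K122.GrOpen
import Groth.Agent.EGA43.K122.GrStage
import Groth.Agent.FlatA.ModelFlat

/-!
# Openness of the normal flatness locus, from descent of gr-flatness to a finite stage

* `HGr`: descent of flatness of all the truncations to a finitely generated stage (S4869);
* `isOpen_of_HGr`: S4892 from `HGr`.
-/

set_option autoImplicit false
universe u

open TensorProduct

namespace K122.GrFinal

open Groth.Agent K122.GrBC K122.GrSeq K122.GrStage K122.GrOpen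
  Groth.Agent.FlatA.Model Groth.Agent.FlatA.FlatDescent Groth.Agent.FlatA.ModelFlat

/-- Descent of flatness of all the truncations `M ⧸ J ^ k M` to a finitely generated stage. -/
def HGr : Prop := ∀ {A₀ A B₀ : Type u} [CommRing A₀] [CommRing A] [Algebra A₀ A]
  [CommRing B₀] [Algebra A₀ B₀] [Algebra.FinitePresentation A₀ B₀]
  (J₀ : Ideal B₀) (_ : J₀.FG)
  (M₀ : Type u) [AddCommGroup M₀] [Module B₀ M₀] [Module A₀ M₀] [IsScalarTower A₀ B₀ M₀]
  [Module.FinitePresentation B₀ M₀],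
  (∀ k : ℕ, Module.Flat A ((A ⊗[A₀] M₀) ⧸
    LinearMap.range (((J₀ ^ k • (⊤ : Submodule B₀ M₀)).restrictScalars A₀).subtype.baseChange A))) →
  ∃ s : Finset A, ∀ k : ℕ, Module.Flat (Algebra.adjoin A₀ (s : Set A))
    ((Algebra.adjoin A₀ (s : Set A) ⊗[A₀] M₀) ⧸
      LinearMap.range (((J₀ ^ k • (⊤ : Submodule B₀ M₀)).restrictScalars
        A₀).subtype.baseChange (Algebra.adjoin A₀ (s : Set A))))

theorem isOpen_of_model (H : HGr.{u}) {A₀ A B₀ B M₀ M : Type u} [CommRing A₀] [CommRing A]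
    [CommRing B₀] [CommRing B] [Algebra A₀ A] [Algebra A₀ B₀] [Algebra A B] [Algebra B₀ B]
    [Algebra A₀ B] [IsScalarTower A₀ A B] [IsScalarTower A₀ B₀ B] [Algebra.IsPushout A₀ A B₀ B]
    [IsNoetherianRing A₀] [Algebra.FinitePresentation A₀ B₀]
    [AddCommGroup M₀] [Module B₀ M₀] [Module A₀ M₀] [IsScalarTower A₀ B₀ M₀]
    [Module.FinitePresentation B₀ M₀]
    [AddCommGroup M] [Module B M] [Module B₀ M] [IsScalarTower B₀ B M] [Module A M]
    [IsScalarTower A B M] (g₀ : M₀ →ₗ[B₀] M) (hg₀ : IsBaseChange B g₀) (J₀ : Ideal B₀)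
    (hJ₀ : J₀.FG) (J : Ideal B) (hJ : J₀.map (algebraMap B₀ B) = J)
    (hgr : ∀ k, Module.Flat A (S2683.gr J M k)) :
    IsOpen {r : PrimeSpectrum (B ⧸ J) | ∀ k,
      FlatCA.FlatAt (B ⧸ J) r.asIdeal (S2683.gr J M k)} := by
  subst hJ
  have hquot := flat_quot_of_flat_gr (A := A) (J₀.map (algebraMap B₀ B)) M hgr
  obtain ⟨s, hs⟩ := H (A₀ := A₀) (A := A) J₀ hJ₀ M₀ fun k =>
    (flat_quot_iff (A₀ := A₀) (A' := A) (B' := B) J₀ g₀ hg₀ k).2 (hquot k)
  let A₁ := Algebra.adjoin A₀ (s : Set A)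
  have hft : Algebra.FiniteType A₀ A₁ := A₁.fg_iff_finiteType.mp ⟨s, rfl⟩
  have hN₁ : IsNoetherianRing A₁ := Algebra.FiniteType.isNoetherianRing A₀ A₁
  obtain ⟨B₁, N₁, _, _, _, _, _, _, _, _, _, _, _, _, _, _, _, _, g₁, hg₁⟩ :=
    exists_level_model (A := A₀) (B := B₀) (N := M₀) (R := A) (S := B) A₁
  have hs' : ∀ k, Module.Flat A₁
      (N₁ ⧸ ((J₀.map (algebraMap B₀ B₁)) ^ k • (⊤ : Submodule B₁ N₁))) := fun k =>
    (flat_quot_iff (A₀ := A₀) (A' := A₁) (B' := B₁) J₀ g₁ hg₁ k).1 (hs k)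
  obtain ⟨_, _, h₁, hh₁, -⟩ := exists_top_map (A := A₀) g₀ hg₀ g₁ hg₁
  have _ : IsScalarTower A₀ B₁ B := IsScalarTower.of_algebraMap_eq fun x ↦ by
    rw [IsScalarTower.algebraMap_apply A₀ B₀ B₁, ← IsScalarTower.algebraMap_apply B₀ B₁ B,
      ← IsScalarTower.algebraMap_apply A₀ B₀ B]
  have i1 : Algebra.IsPushout A₁ A B₁ B :=
    (Algebra.IsPushout.comp_iff (R := A₀) (S := A₁) (R' := B₀) (S' := B₁) (T := A)
      (T' := B)).mp inferInstance
  have i2 : Algebra.FinitePresentation A₁ B₁ := finitePresentation_of_isPushout (A := A₀) (B := B₀)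
  have i3 : Module.FinitePresentation B₁ N₁ := FinitePresentation.of_isBaseChange g₁ hg₁
  have key := isOpen_gr_flat_of_model (A₁ := A₁) A (B₁ := B₁) (B := B) (M₁ := N₁) (M := M) hN₁
    inferInstance inferInstance (J₀.map (algebraMap B₀ B₁)) h₁ hh₁ hs'
  have hmap : (J₀.map (algebraMap B₀ B₁)).map (algebraMap B₁ B) = J₀.map (algebraMap B₀ B) := by
    rw [Ideal.map_map, ← IsScalarTower.algebraMap_eq]
  have aux : ∀ (J : Ideal B) (_ : (J₀.map (algebraMap B₀ B₁)).map (algebraMap B₁ B) = J),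
      IsOpen {r : PrimeSpectrum (B ⧸ J) | ∀ k,
        FlatCA.FlatAt (B ⧸ J) r.asIdeal (S2683.gr J M k)} := by
    rintro J rfl
    exact key
  exact aux _ hmap

theorem isOpen_of_HGr (H : HGr.{u}) {A B : Type u} [CommRing A] [CommRing B] [Algebra A B]
    [Algebra.FinitePresentation A B] (J : Ideal B) (hJ : J.FG)
    (M : Type u) [AddCommGroup M] [Module B M] [Module A M] [IsScalarTower A B M]
    [Module.FinitePresentation B M]
    (hgrM : ∀ k : ℕ, Module.Flat A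
      (↥(J ^ k • (⊤ : Submodule B M)) ⧸
        Submodule.comap (J ^ k • (⊤ : Submodule B M)).subtype (J ^ (k + 1) • ⊤))) :
    IsOpen {q : PrimeSpectrum B | J ≤ q.asIdeal → ∀ k : ℕ,
      Module.Flat (B ⧸ J) ((B ⧸ J) ⊗[B] LocalizedModule q.asIdeal.primeCompl
        (↥(J ^ k • (⊤ : Submodule B M)) ⧸
          Submodule.comap (J ^ k • (⊤ : Submodule B M)).subtype (J ^ (k + 1) • ⊤)))} := by
  classical
  apply isOpen_of_isOpen_quot
  obtain ⟨T, hT⟩ := hJ
  obtain ⟨A₀, B₀, M₀, _, _, _, _, _, _, _, _, _, _, g₀, hA₀, -, hpush, hB₀, hT', hM₀, hg₀⟩ :=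
    exists_model (R := A) (S := B) (M := M) ∅ T
  have hft : Algebra.FiniteType ℤ A₀ := A₀.fg_iff_finiteType.mp hA₀
  have hN : IsNoetherianRing A₀ := Algebra.FiniteType.isNoetherianRing ℤ A₀
  choose! lift hlift using hT'
  let T₀ : Finset B₀ := T.image lift
  let J₀ : Ideal B₀ := Ideal.span (T₀ : Set B₀)
  have hJ₀ : J₀.FG := ⟨T₀, rfl⟩
  have hmap : J₀.map (algebraMap B₀ B) = J := by
    rw [← hT, Ideal.map_span]
    congr 1
    ext b
    constructor
    · rintro ⟨x, hx, rfl⟩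
      obtain ⟨t, ht, rfl⟩ := Finset.mem_image.1 hx
      rw [hlift t ht]
      exact ht
    · intro hb
      exact ⟨lift b, Finset.mem_coe.2 (Finset.mem_image.2 ⟨b, hb, rfl⟩), hlift b hb⟩
  refine isOpen_of_model H (A₀ := A₀) (A := A) (B₀ := B₀) (B := B) g₀ hg₀ J₀ hJ₀ J hmap fun k => ?_
  have h1 := hgrM k
  rw [comap_subtype_eq] at h1
  exact h1

end K122.GrFinal
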