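import Groth.Agent.S2683
import Groth.Agent.Divis.FlatExt

/-!
# The graded pieces and the truncations

* `comap_subtype_eq`: `J ^ (k + 1) M` inside `J ^ k M` is `J · (J ^ k M)`;
* `flat_gr_of_flat_quot`: if all `M ⧸ J ^ k M` are flat then all `J ^ k M ⧸ J ^ (k + 1) M` are flat;
* `flat_quot_of_flat_gr`: the converse.
-/

set_option autoImplicit false
universe u

namespace K122.GrSeq

open Groth.Agent

variable {A B : Type u} [CommRing A] [CommRing B] [Algebra A B] (J : Ideal B)
  (M : Type u) [AddCommGroup M] [Module B M] [Module A M] [IsScalarTower A B M]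

omit [Algebra A B] [Module A M] [IsScalarTower A B M] [CommRing A] in
theorem comap_subtype_eq (k : ℕ) :
    Submodule.comap (J ^ k • (⊤ : Submodule B M)).subtype (J ^ (k + 1) • ⊤) =
      J • (⊤ : Submodule B ↥(J ^ k • (⊤ : Submodule B M))) := by
  have h1 : Submodule.map (J ^ k • (⊤ : Submodule B M)).subtype
      (J • (⊤ : Submodule B ↥(J ^ k • (⊤ : Submodule B M)))) = J ^ (k + 1) • ⊤ := by
    rw [Submodule.map_smul'', Submodule.map_top, Submodule.range_subtype, ← Submodule.mul_smul,
      pow_succ, mul_comm]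
  rw [← h1, Submodule.comap_map_eq_of_injective (Submodule.injective_subtype _)]

/-- the inclusion of the graded piece in the truncation -/
noncomputable def grIncl (k : ℕ) : S2683.gr J M k →ₗ[B] (M ⧸ (J ^ (k + 1) • (⊤ : Submodule B M))) :=
  Submodule.mapQ _ _ (J ^ k • (⊤ : Submodule B M)).subtype (comap_subtype_eq J M k).ge

/-- the transition map of the truncations -/
noncomputable def trans (k : ℕ) : (M ⧸ (J ^ (k + 1) • (⊤ : Submodule B M))) →ₗ[B]
    (M ⧸ (J ^ k • (⊤ : Submodule B M))) :=
  Submodule.factor (Submodule.smul_mono_left (Ideal.pow_le_pow_right (Nat.le_succ k)))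

theorem grIncl_injective (k : ℕ) : Function.Injective (grIncl J M k) := by
  rw [injective_iff_map_eq_zero]
  intro x hx
  obtain ⟨x, rfl⟩ := Submodule.Quotient.mk_surjective _ x
  have h1 : (Submodule.Quotient.mk (x : M) : M ⧸ (J ^ (k + 1) • (⊤ : Submodule B M))) = 0 := hx
  rw [Submodule.Quotient.mk_eq_zero] at h1 ⊢
  rw [← comap_subtype_eq]
  exact h1

theorem trans_surjective (k : ℕ) : Function.Surjective (trans J M k) := by
  intro y
  obtain ⟨y, rfl⟩ := Submodule.Quotient.mk_surjective _ y
  exact ⟨Submodule.Quotient.mk y, rfl⟩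

theorem exact (k : ℕ) : Function.Exact (grIncl J M k) (trans J M k) := by
  intro y
  obtain ⟨y, rfl⟩ := Submodule.Quotient.mk_surjective _ y
  have h1 : trans J M k (Submodule.Quotient.mk y) = Submodule.Quotient.mk y := rfl
  rw [h1, Submodule.Quotient.mk_eq_zero]
  constructor
  · intro hy
    exact ⟨Submodule.Quotient.mk ⟨y, hy⟩, rfl⟩
  · rintro ⟨x, hx⟩
    obtain ⟨x, rfl⟩ := Submodule.Quotient.mk_surjective _ x
    have h2 : (Submodule.Quotient.mk (x : M) : M ⧸ (J ^ (k + 1) • (⊤ : Submodule B M))) =
      Submodule.Quotient.mk y := hx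
    rw [Submodule.Quotient.eq] at h2
    have h3 : (x : M) - y ∈ J ^ k • (⊤ : Submodule B M) :=
      Submodule.smul_mono_left (Ideal.pow_le_pow_right (Nat.le_succ k)) h2
    have h4 := Submodule.sub_mem _ x.2 h3
    rwa [sub_sub_cancel] at h4

theorem flat_gr_of_flat_quot (h : ∀ k, Module.Flat A (M ⧸ (J ^ k • (⊤ : Submodule B M)))) (k : ℕ) :
    Module.Flat A (S2683.gr J M k) := by
  have := h k
  have := h (k + 1)
  exact Divis.FlatExt.flat_of_exact_left (f := (grIncl J M k).restrictScalars A)
    (g := (trans J M k).restrictScalars A) (grIncl_injective J M k) (exact J M k)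
    (trans_surjective J M k)

theorem flat_quot_of_flat_gr (h : ∀ k, Module.Flat A (S2683.gr J M k)) (k : ℕ) :
    Module.Flat A (M ⧸ (J ^ k • (⊤ : Submodule B M))) := by
  induction k with
  | zero =>
    have h1 : Subsingleton (M ⧸ (J ^ 0 • (⊤ : Submodule B M))) := by
      rw [pow_zero, Ideal.one_eq_top, Submodule.top_smul]
      exact Submodule.Quotient.subsingleton_iff.2 rfl
    infer_instance
  | succ k ih =>
    have := h k
    exact Divis.FlatExt.flat_of_exact (f := (grIncl J M k).restrictScalars A)
      (g := (trans J M k).restrictScalars A) (grIncl_injective J M k) (exact J M k)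
      (trans_surjective J M k)

end K122.GrSeq
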