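import Groth.Agent.EGA43.K122.GrOpenNoeth
import Groth.Agent.EGA43.K122.GrBC
import Groth.Agent.EGA43.K122.GrSeq
import Groth.Agent.EGA43.K122.FlatAtDesc
import Groth.Agent.Flat2B.FlatDim

/-!
# Openness of the normal flatness locus, from a Noetherian model with flat truncations

* `isOpen_gr_flat_of_model`: in `Spec (B ⧸ J)`;
* `isOpen_of_isOpen_quot`: in `Spec B`, in terms of `(B ⧸ J) ⊗ (J ^ k M ⧸ J ^ (k + 1) M)_q`.
-/

set_option autoImplicit false
universe u

open TensorProduct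

namespace K122.GrOpen

open Groth.Agent K122.GrBC K122.GrSeq K122.GrOpenNoeth

attribute [local instance] isScalarTower_quot

section Model

variable {A₁ A B₁ B : Type u} [CommRing A₁] [CommRing A] [CommRing B₁] [CommRing B]
  [Algebra A₁ A] [Algebra A₁ B₁] [Algebra A B] [Algebra B₁ B] [Algebra A₁ B]
  [IsScalarTower A₁ A B] [IsScalarTower A₁ B₁ B] [Algebra.IsPushout A₁ A B₁ B]
  {M₁ M : Type u} [AddCommGroup M₁] [Module B₁ M₁] [Module A₁ M₁] [IsScalarTower A₁ B₁ M₁]
  [AddCommGroup M] [Module B M] [Module B₁ M] [IsScalarTower B₁ B M]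

variable (A) in
include A in
theorem isOpen_gr_flat_of_model (hA₁ : IsNoetherianRing A₁) (hB₁ : Algebra.FiniteType A₁ B₁)
    (hM₁ : Module.Finite B₁ M₁) (J₁ : Ideal B₁) (g : M₁ →ₗ[B₁] M) (hg : IsBaseChange B g)
    (hflat : ∀ k, Module.Flat A₁ (M₁ ⧸ (J₁ ^ k • (⊤ : Submodule B₁ M₁)))) :
    IsOpen {r : PrimeSpectrum (B ⧸ J₁.map (algebraMap B₁ B)) | ∀ k,
      FlatCA.FlatAt (B ⧸ J₁.map (algebraMap B₁ B)) r.asIdeal
        (S2683.gr (J₁.map (algebraMap B₁ B)) M k)} := by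
  have hNB : IsNoetherianRing B₁ := Algebra.FiniteType.isNoetherianRing A₁ B₁
  have h1 := isOpen_gr_flat J₁ M₁
  have hNC : IsNoetherianRing (B₁ ⧸ J₁) := inferInstance
  have hft : Algebra.FiniteType A₁ (B₁ ⧸ J₁) := inferInstance
  have hfp : Algebra.FinitePresentation A₁ (B₁ ⧸ J₁) :=
    Algebra.FinitePresentation.of_finiteType.1 hft
  have hpush := isPushout_quot (A₁ := A₁) (A := A) (B := B) J₁
  have key : ∀ (r : PrimeSpectrum (B ⧸ J₁.map (algebraMap B₁ B))) (k : ℕ),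
      FlatCA.FlatAt (B ⧸ J₁.map (algebraMap B₁ B)) r.asIdeal
        (S2683.gr (J₁.map (algebraMap B₁ B)) M k) ↔
      FlatCA.FlatAt (B₁ ⧸ J₁)
        (PrimeSpectrum.comap (algebraMap (B₁ ⧸ J₁) (B ⧸ J₁.map (algebraMap B₁ B))) r).asIdeal
        (S2683.gr J₁ M₁ k) := by
    intro r k
    obtain ⟨e⟩ := nonempty_grEquiv A J₁ g hg k (hflat k)
    have hfl : Module.Flat A₁ (S2683.gr J₁ M₁ k) := flat_gr_of_flat_quot J₁ M₁ hflat k
    have hfin : Module.Finite B₁ (S2683.gr J₁ M₁ k) := inferInstance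
    have hfin' : Module.Finite (B₁ ⧸ J₁) (S2683.gr J₁ M₁ k) :=
      Module.Finite.of_restrictScalars_finite B₁ _ _
    have hfp' : Module.FinitePresentation (B₁ ⧸ J₁) (S2683.gr J₁ M₁ k) :=
      Module.finitePresentation_of_finite _ _
    rw [← Flat2C.FlatAtCriterion.flatAt_congr r.asIdeal e]
    exact K122.FlatAtDesc.flatAt_iff_baseChange (A₁ := A₁) (A := A) (C₁ := B₁ ⧸ J₁)
      (C := B ⧸ J₁.map (algebraMap B₁ B)) (P₁ := S2683.gr J₁ M₁ k) r.asIdeal
  have h2 : {r : PrimeSpectrum (B ⧸ J₁.map (algebraMap B₁ B)) | ∀ k,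
      FlatCA.FlatAt (B ⧸ J₁.map (algebraMap B₁ B)) r.asIdeal
        (S2683.gr (J₁.map (algebraMap B₁ B)) M k)} =
      (PrimeSpectrum.comap (algebraMap (B₁ ⧸ J₁) (B ⧸ J₁.map (algebraMap B₁ B)))) ⁻¹'
        {q : PrimeSpectrum (B₁ ⧸ J₁) | ∀ k, FlatCA.FlatAt (B₁ ⧸ J₁) q.asIdeal (S2683.gr J₁ M₁ k)} := by
    ext r
    exact forall_congr' fun k => key r k
  rw [h2]
  exact h1.preimage (PrimeSpectrum.continuous_comap _)

end Model

section Quot

variable {B : Type u} [CommRing B] (J : Ideal B)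

/-- `C ⊗ G = G` for a module over a quotient `C` of `B`. -/
noncomputable def tensorQuotEquiv (G : Type u) [AddCommGroup G] [Module B G] [Module (B ⧸ J) G]
    [IsScalarTower B (B ⧸ J) G] : (B ⧸ J) ⊗[B] G ≃ₗ[B ⧸ J] G :=
  LinearEquiv.ofBijective
    (TensorProduct.AlgebraTensorModule.lift
      ((LinearMap.toSpanSingleton (B ⧸ J) (G →ₗ[B] G) LinearMap.id)))
    (by
      have h0 : ∀ (c : B ⧸ J) (x : G), (TensorProduct.AlgebraTensorModule.lift
          ((LinearMap.toSpanSingleton (B ⧸ J) (G →ₗ[B] G) LinearMap.id))) (c ⊗ₜ[B] x) = c • x :=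
        fun _ _ => rfl
      have h1 : ∀ y : (B ⧸ J) ⊗[B] G, ∃ x : G, y = 1 ⊗ₜ x := by
        intro y
        induction y using TensorProduct.induction_on with
        | zero => exact ⟨0, by simp⟩
        | tmul c x =>
          obtain ⟨b, rfl⟩ := Ideal.Quotient.mk_surjective c
          refine ⟨b • x, ?_⟩
          rw [TensorProduct.tmul_smul, TensorProduct.smul_tmul', Algebra.smul_def, mul_one]
          rfl
        | add y z hy hz =>
          obtain ⟨a, rfl⟩ := hy
          obtain ⟨b, rfl⟩ := hz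
          exact ⟨a + b, by rw [TensorProduct.tmul_add]⟩
      constructor
      · rw [injective_iff_map_eq_zero]
        intro y hy
        obtain ⟨x, rfl⟩ := h1 y
        rw [h0, one_smul] at hy
        rw [hy, TensorProduct.tmul_zero]
      · intro x
        exact ⟨1 ⊗ₜ x, by rw [h0, one_smul]⟩)

theorem flat_tensor_iff_flatAt (G : Type u) [AddCommGroup G] [Module B G] [Module (B ⧸ J) G]
    [IsScalarTower B (B ⧸ J) G] (q : Ideal B) [q.IsPrime] (r : Ideal (B ⧸ J)) [r.IsPrime]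
    (hr : r.comap (Ideal.Quotient.mk J) = q) :
    Module.Flat (B ⧸ J) ((B ⧸ J) ⊗[B] LocalizedModule q.primeCompl G) ↔
      FlatCA.FlatAt (B ⧸ J) r G := by
  rw [← Flat2C.FlatAtCriterion.flatAt_congr r (tensorQuotEquiv J G)]
  let g : G →ₗ[B] LocalizedModule q.primeCompl G := LocalizedModule.mkLinearMap q.primeCompl G
  have h1 : IsLocalizedModule q.primeCompl ((g.baseChange (B ⧸ J)).restrictScalars B) :=
    Flat2B.FlatDim.isLocalizedModule_lTensor (N := (B ⧸ J)) q.primeCompl g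
  have h2 : IsLocalizedModule (Algebra.algebraMapSubmonoid (B ⧸ J) q.primeCompl)
      (g.baseChange (B ⧸ J)) := IsLocalizedModule.of_restrictScalars _ _
  have h3 : Algebra.algebraMapSubmonoid (B ⧸ J) q.primeCompl = r.primeCompl := by
    ext c
    constructor
    · rintro ⟨b, hb, rfl⟩
      intro hc
      apply hb
      rw [← hr]
      exact hc
    · intro hc
      obtain ⟨b, rfl⟩ := Ideal.Quotient.mk_surjective c
      refine ⟨b, ?_, rfl⟩
      intro hb
      apply hc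
      rw [← hr] at hb
      exact hb
  rw [h3] at h2
  let e : LocalizedModule r.primeCompl ((B ⧸ J) ⊗[B] G) ≃ₗ[B ⧸ J]
      ((B ⧸ J) ⊗[B] LocalizedModule q.primeCompl G) :=
    IsLocalizedModule.iso r.primeCompl (g.baseChange (B ⧸ J))
  exact ⟨fun h => Module.Flat.of_linearEquiv e, fun h => by
    have : Module.Flat (B ⧸ J) (LocalizedModule r.primeCompl ((B ⧸ J) ⊗[B] G)) := h
    exact Module.Flat.of_linearEquiv e.symm⟩

theorem isOpen_of_isOpen_quot (M : Type u) [AddCommGroup M] [Module B M]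
    (h : IsOpen {r : PrimeSpectrum (B ⧸ J) | ∀ k, FlatCA.FlatAt (B ⧸ J) r.asIdeal (S2683.gr J M k)}) :
    IsOpen {q : PrimeSpectrum B | J ≤ q.asIdeal → ∀ k : ℕ,
      Module.Flat (B ⧸ J) ((B ⧸ J) ⊗[B] LocalizedModule q.asIdeal.primeCompl
        (↥(J ^ k • (⊤ : Submodule B M)) ⧸
          Submodule.comap (J ^ k • (⊤ : Submodule B M)).subtype (J ^ (k + 1) • ⊤)))} := by
  rw [← isClosed_compl_iff]
  have h1 : {q : PrimeSpectrum B | J ≤ q.asIdeal → ∀ k : ℕ,
      Module.Flat (B ⧸ J) ((B ⧸ J) ⊗[B] LocalizedModule q.asIdeal.primeCompl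
        (↥(J ^ k • (⊤ : Submodule B M)) ⧸
          Submodule.comap (J ^ k • (⊤ : Submodule B M)).subtype (J ^ (k + 1) • ⊤)))}ᶜ =
      (PrimeSpectrum.comap (Ideal.Quotient.mk J)) '' {r : PrimeSpectrum (B ⧸ J) | ∀ k,
        FlatCA.FlatAt (B ⧸ J) r.asIdeal (S2683.gr J M k)}ᶜ := by
    ext q
    have key : ∀ (r : PrimeSpectrum (B ⧸ J)) (_ : PrimeSpectrum.comap (Ideal.Quotient.mk J) r = q)
        (k : ℕ), Module.Flat (B ⧸ J) ((B ⧸ J) ⊗[B] LocalizedModule q.asIdeal.primeCompl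
        (↥(J ^ k • (⊤ : Submodule B M)) ⧸
          Submodule.comap (J ^ k • (⊤ : Submodule B M)).subtype (J ^ (k + 1) • ⊤))) ↔
        FlatCA.FlatAt (B ⧸ J) r.asIdeal (S2683.gr J M k) := by
      intro r hr k
      rw [comap_subtype_eq]
      exact flat_tensor_iff_flatAt J (S2683.gr J M k) q.asIdeal r.asIdeal
        (congrArg PrimeSpectrum.asIdeal hr)
    constructor
    · intro hq
      rw [Set.mem_compl_iff, Set.mem_ofPred_eq, Classical.not_imp] at hq
      obtain ⟨hJ, hq⟩ := hq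
      have h2 : q ∈ Set.range (PrimeSpectrum.comap (Ideal.Quotient.mk J)) := by
        rw [range_comap_of_surjective _ _ Ideal.Quotient.mk_surjective,
          Ideal.mk_ker]
        exact hJ
      obtain ⟨r, hr⟩ := h2
      refine ⟨r, ?_, hr⟩
      intro h3
      apply hq
      intro k
      exact (key r hr k).2 (h3 k)
    · rintro ⟨r, hr, hrq⟩ h3
      apply hr
      have hJ : J ≤ q.asIdeal := by
        rw [← hrq]
        intro x hx
        change Ideal.Quotient.mk J x ∈ r.asIdeal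
        rw [Ideal.Quotient.eq_zero_iff_mem.2 hx]
        exact r.asIdeal.zero_mem
      intro k
      exact (key r hrq k).1 (h3 hJ k)
  rw [h1]
  exact (PrimeSpectrum.isClosedEmbedding_comap_of_surjective _ _
    Ideal.Quotient.mk_surjective).isClosedMap _ h.isClosed_compl

end Quot

end K122.GrOpen
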