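import Groth.Agent.S2683
import Groth.Agent.EGA43.K121.OpenBase
import Groth.Agent.Flat2C.FlatAtCriterion
import Groth.Prelude.Def_FlatCA

/-!
# Openness of the normal flatness locus over a Noetherian ring

* `isOpen_gr_flat`: `B` Noetherian, `J` an ideal, `M` a finite module: the set of primes of `B ⧸ J` at
  which all the graded pieces `J ^ k M ⧸ J ^ (k + 1) M` are flat over `B ⧸ J` is open.
-/

set_option autoImplicit false
universe u

open TensorProduct DirectSum

namespace K122.GrOpenNoeth

open Groth.Agent Groth.Agent.S2683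

section FlatAt

variable {C : Type u} [CommRing C] (q : Ideal C) [q.IsPrime]

theorem flatAt_iff_tensor (N : Type u) [AddCommGroup N] [Module C N] :
    FlatCA.FlatAt C q N ↔ Module.Flat C (Localization.AtPrime q ⊗[C] N) := by
  let e := (LocalizedModule.equivTensorProduct q.primeCompl N).restrictScalars C
  exact ⟨fun h => by
      have : Module.Flat C (LocalizedModule q.primeCompl N) := h
      exact Module.Flat.of_linearEquiv e.symm,
    fun h => Module.Flat.of_linearEquiv e⟩

theorem flatAt_directSum_iff (N : ℕ → Type u) [∀ k, AddCommGroup (N k)] [∀ k, Module C (N k)] :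
    FlatCA.FlatAt C q (⨁ k, N k) ↔ ∀ k, FlatCA.FlatAt C q (N k) := by
  rw [flatAt_iff_tensor]
  have e := TensorProduct.directSumRight C C (Localization.AtPrime q) N
  have h1 : Module.Flat C (Localization.AtPrime q ⊗[C] (⨁ k, N k)) ↔
      Module.Flat C (⨁ k, (Localization.AtPrime q ⊗[C] N k)) :=
    ⟨fun h => Module.Flat.of_linearEquiv e.symm, fun h => Module.Flat.of_linearEquiv e⟩
  rw [h1, Module.Flat.directSum_iff]
  exact forall_congr' fun k => (flatAt_iff_tensor q (N k)).symm

end FlatAt

section Abs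

variable {B : Type u} [CommRing B] (J : Ideal B) (R : Type u) [CommRing R] [Algebra B R]
  (N : Type u) [AddCommGroup N] [Module R N] [Module B N] [IsScalarTower B R N]

/-- `N ⧸ J N` for a module over a `B`-algebra `R`, as an `R`-module quotient. -/
abbrev GM : Type u := N ⧸ ((J.map (algebraMap B R)) • (⊤ : Submodule R N))

noncomputable instance : Module (B ⧸ J) (GM J R N) :=
  Module.compHom _ (algebraMap (B ⧸ J) (R ⧸ J.map (algebraMap B R)))

instance : IsScalarTower (B ⧸ J) (R ⧸ J.map (algebraMap B R)) (GM J R N) :=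
  IsScalarTower.of_algebraMap_smul fun _ _ => rfl

instance : IsScalarTower B (B ⧸ J) (GM J R N) :=
  IsScalarTower.of_algebraMap_smul fun a x => by
    change (algebraMap (B ⧸ J) (R ⧸ J.map (algebraMap B R)) (algebraMap B (B ⧸ J) a)) • x = a • x
    rw [← IsScalarTower.algebraMap_apply B (B ⧸ J) (R ⧸ J.map (algebraMap B R)),
      IsScalarTower.algebraMap_apply B R (R ⧸ J.map (algebraMap B R))]
    rw [algebraMap_smul, algebraMap_smul]

theorem smul_top_eq : ((J.map (algebraMap B R)) • (⊤ : Submodule R N)).restrictScalars B =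
    J • (⊤ : Submodule B N) := by
  rw [Ideal.smul_restrictScalars]
  rfl

/-- the projection from the Rees module -/
noncomputable def mkG : N →ₗ[B] GM J R N :=
  (Submodule.mkQ ((J.map (algebraMap B R)) • (⊤ : Submodule R N))).restrictScalars B

theorem mkG_surjective : Function.Surjective (mkG J R N) := Submodule.Quotient.mk_surjective _

theorem mkG_eq_zero (x : N) (hx : x ∈ J • (⊤ : Submodule B N)) : mkG J R N x = 0 := by
  change (Submodule.mkQ ((J.map (algebraMap B R)) • (⊤ : Submodule R N))) x = 0
  rw [Submodule.mkQ_apply, Submodule.Quotient.mk_eq_zero]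
  rw [← smul_top_eq J R N] at hx
  exact hx

variable {X : ℕ → Type u} [∀ k, AddCommGroup (X k)] [∀ k, Module B (X k)]
  (i : ∀ k, X k →ₗ[B] N) (p : ∀ k, N →ₗ[B] X k)

/-- inclusion of a graded piece -/
noncomputable def inclG (k : ℕ) : (X k ⧸ (J • (⊤ : Submodule B (X k)))) →ₗ[B ⧸ J] GM J R N :=
  LinearMap.extendScalarsOfSurjective Ideal.Quotient.mk_surjective
    (Submodule.liftQ _ (mkG J R N ∘ₗ i k) (by
      rw [Submodule.smul_le]
      intro a ha x _
      rw [LinearMap.mem_ker, LinearMap.comp_apply, map_smul]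
      exact mkG_eq_zero J R N _ (Submodule.smul_mem_smul ha Submodule.mem_top)))

theorem inclG_mk (k : ℕ) (x : X k) :
    inclG J R N i k (Submodule.Quotient.mk x) = mkG J R N (i k x) := rfl

/-- projection to a graded piece -/
noncomputable def projG (k : ℕ) : GM J R N →ₗ[B ⧸ J] (X k ⧸ (J • (⊤ : Submodule B (X k)))) :=
  LinearMap.extendScalarsOfSurjective Ideal.Quotient.mk_surjective
    ((Submodule.mapQ (((J.map (algebraMap B R)) • (⊤ : Submodule R N)).restrictScalars B) _
      (p k) (by
        rw [smul_top_eq, Submodule.smul_le]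
        intro a ha x _
        rw [Submodule.mem_comap, map_smul]
        exact Submodule.smul_mem_smul ha Submodule.mem_top)) ∘ₗ
      (Submodule.Quotient.restrictScalarsEquiv B
        ((J.map (algebraMap B R)) • (⊤ : Submodule R N))).symm.toLinearMap)

theorem projG_mk (k : ℕ) (x : N) :
    projG J R N p k (mkG J R N x) = Submodule.Quotient.mk (p k x) := rfl

variable (hpi : ∀ k x, p k (i k x) = x) (hpi' : ∀ j k x, j ≠ k → p j (i k x) = 0)
  (hs : ∀ x, ∃ s : Finset ℕ, x = ∑ k ∈ s, i k (p k x))

/-- The direct sum of the graded pieces. -/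
noncomputable def sumG : (⨁ k, (X k ⧸ (J • (⊤ : Submodule B (X k))))) →ₗ[B ⧸ J] GM J R N :=
  DirectSum.toModule (B ⧸ J) ℕ (GM J R N) (inclG J R N i)

include hpi hpi' in
theorem projG_sumG (k : ℕ) (x : ⨁ k, (X k ⧸ (J • (⊤ : Submodule B (X k))))) :
    projG J R N p k (sumG J R N i x) = x k := by
  induction x using DirectSum.induction_on with
  | zero => simp
  | of j y =>
    obtain ⟨y, rfl⟩ := Submodule.Quotient.mk_surjective _ y
    have h1 : sumG J R N i (DirectSum.of (fun k => (X k ⧸ (J • (⊤ : Submodule B (X k))))) j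
        (Submodule.Quotient.mk y)) = mkG J R N (i j y) := by
      rw [← inclG_mk J R N i]
      exact DirectSum.toModule_lof (R := B ⧸ J) (M := fun k => (X k ⧸ (J • (⊤ : Submodule B (X k)))))
        (φ := inclG J R N i) j (Submodule.Quotient.mk y)
    rw [h1, projG_mk]
    rcases eq_or_ne k j with rfl | hkj
    · rw [hpi, DirectSum.of_eq_same]
    · rw [hpi' k j y hkj, DirectSum.of_eq_of_ne _ _ _ hkj]
      rfl
  | add x y hx hy => rw [map_add, map_add, hx, hy, DirectSum.add_apply]

include hpi hpi' hs in
theorem bijective_sumG : Function.Bijective (sumG J R N i) := by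
  constructor
  · rw [injective_iff_map_eq_zero]
    intro x hx
    refine DFinsupp.ext fun k => ?_
    rw [← projG_sumG J R N i p hpi hpi' k x, hx, map_zero]
    rfl
  · intro y
    obtain ⟨x, rfl⟩ := mkG_surjective J R N y
    obtain ⟨s, hs⟩ := hs x
    refine ⟨∑ k ∈ s, DirectSum.lof (B ⧸ J) ℕ (fun k => (X k ⧸ (J • (⊤ : Submodule B (X k))))) k
      (Submodule.Quotient.mk (p k x)), ?_⟩
    rw [map_sum]
    conv_rhs => rw [hs, map_sum]
    refine Finset.sum_congr rfl fun k _ => ?_
    rw [sumG, DirectSum.toModule_lof, inclG_mk]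

include hpi hpi' hs in
theorem flatAt_GM_iff (q : Ideal (B ⧸ J)) [q.IsPrime] :
    FlatCA.FlatAt (B ⧸ J) q (GM J R N) ↔
      ∀ k, FlatCA.FlatAt (B ⧸ J) q (X k ⧸ (J • (⊤ : Submodule B (X k)))) := by
  rw [← flatAt_directSum_iff q (fun k => (X k ⧸ (J • (⊤ : Submodule B (X k)))))]
  exact (Flat2C.FlatAtCriterion.flatAt_congr q
    (LinearEquiv.ofBijective (sumG J R N i) (bijective_sumG J R N i p hpi hpi' hs))).symm

include hpi hpi' hs in
/-- The flat locus of the graded module is open. -/
theorem isOpen_flat [IsNoetherianRing B] [Algebra.FiniteType B R] [Module.Finite R N] :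
    IsOpen {q : PrimeSpectrum (B ⧸ J) |
      ∀ k, FlatCA.FlatAt (B ⧸ J) q.asIdeal (X k ⧸ (J • (⊤ : Submodule B (X k))))} := by
  have h3 : Algebra.FiniteType B (R ⧸ J.map (algebraMap B R)) := inferInstance
  have h4 : Algebra.FiniteType (B ⧸ J) (R ⧸ J.map (algebraMap B R)) :=
    Algebra.FiniteType.of_restrictScalars_finiteType B (B ⧸ J) _
  have h5 : Algebra.FinitePresentation (B ⧸ J) (R ⧸ J.map (algebraMap B R)) :=
    Algebra.FinitePresentation.of_finiteType.1 h4
  have h6 : IsNoetherianRing (R ⧸ J.map (algebraMap B R)) :=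
    Algebra.FiniteType.isNoetherianRing (B ⧸ J) _
  have h7 : Module.Finite R (GM J R N) := inferInstance
  have h8 : Module.Finite (R ⧸ J.map (algebraMap B R)) (GM J R N) :=
    Module.Finite.of_restrictScalars_finite R _ _
  have h9 : Module.FinitePresentation (R ⧸ J.map (algebraMap B R)) (GM J R N) :=
    Module.finitePresentation_of_finite _ _
  have h := K121.OpenBase.isOpen_setOf_localizedModule_flat (A := B ⧸ J) (B := B ⧸ J)
    (C := R ⧸ J.map (algebraMap B R)) (GM J R N)
  convert h using 1
  ext q
  exact (flatAt_GM_iff J R N i p hpi hpi' hs q.asIdeal).symm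

end Abs

section Gr

variable {B : Type u} [CommRing B] (J : Ideal B) (M : Type u) [AddCommGroup M] [Module B M]

theorem proj_incl_ne {j k : ℕ} (h : j ≠ k) (x) : proj J M j (incl J M k x) = 0 := by
  apply Subtype.ext
  simp [proj, incl, PolynomialModule.coeff_single, h.symm]

theorem exists_sum (x : RM J M) : ∃ s : Finset ℕ, x = ∑ k ∈ s, incl J M k (proj J M k x) := by
  classical
  refine ⟨(x : PolynomialModule B M).coeff.support, ?_⟩
  apply Subtype.ext
  rw [AddSubmonoidClass.coe_finsetSum]
  apply PolynomialModule.ext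
  rw [PolynomialModule.coeff_sum]
  exact (Finsupp.sum_single (x : PolynomialModule B M).coeff).symm

/-- The flat locus of the graded module is open. -/
theorem isOpen_gr_flat [IsNoetherianRing B] [Module.Finite B M] :
    IsOpen {q : PrimeSpectrum (B ⧸ J) | ∀ k, FlatCA.FlatAt (B ⧸ J) q.asIdeal (gr J M k)} := by
  have h1 : Module.Finite (reesAlgebra J) (RM J M) := finite_RM J M
  exact isOpen_flat J (reesAlgebra J) (RM J M) (incl J M) (proj J M) (proj_incl J M)
    (fun j k x h => proj_incl_ne J M h x) (exists_sum J M)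

end Gr

end K122.GrOpenNoeth
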