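import Groth.Agent.EGA43.K122.DimJac2

/-!
# `dim cl{P} + dim O_P` is locally constant at points with domain local rings
-/

set_option autoImplicit false
universe u
open CategoryTheory AlgebraicGeometry TopologicalSpace Topology

namespace K122.HeightConst

open K122.DimJac K122.TopDelta K122.DimJac2 Groth.Agent.Ega4fib.H175.JacobsonDim
open Groth.Agent.CycB.LocQuot

variable {X S : Scheme.{u}}

/-- dimension of the set of generizations -/
theorem dim_generizations_eq (x : X) :
    topologicalKrullDim ↥{t : X | t ∈ (Set.univ : Set X) ∧ t ⤳ x} = ringKrullDim (X.presheaf.stalk x) := by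
  have hr : Set.range (X.fromSpecStalk x) = {t : X | t ∈ (Set.univ : Set X) ∧ t ⤳ x} := by
    ext t
    constructor
    · rintro ⟨P, rfl⟩
      exact ⟨trivial, fromSpecStalk_specializes _⟩
    · rintro ⟨-, htx⟩
      exact ⟨primeOf htx, fromSpecStalk_primeOf htx⟩
  rw [← hr, ← PrimeSpectrum.topologicalKrullDim_eq_ringKrullDim]
  exact (IsHomeomorph.topologicalKrullDim_eq _
    (X.fromSpecStalk x).isEmbedding.toHomeomorph.isHomeomorph).symm

/-- the generic point of the unique component through a point whose local ring is a domain -/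
theorem exists_generic_of_isDomain (x : X) [IsDomain (X.presheaf.stalk x)] :
    ∃ g : X, g ⤳ x ∧ ∀ c : X, c ⤳ x → g ⤳ c := by
  refine ⟨X.fromSpecStalk x (⊥ : PrimeSpectrum (X.presheaf.stalk x)), fromSpecStalk_specializes _, ?_⟩
  intro c hc
  rw [← fromSpecStalk_primeOf hc]
  refine Specializes.map ?_ (X.fromSpecStalk x).continuous
  exact (PrimeSpectrum.le_iff_specializes _ _).mp bot_le

section

variable [IsLocallyNoetherian S] [JacobsonSpace S]
    (h2 : ∀ s : S, CAlg.IsUniversallyCatenary (S.presheaf.stalk s))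
    (h3 : ∀ S' ∈ irreducibleComponents (S : Type u), ∀ s ∈ S', IsClosed ({s} : Set S) →
      topologicalKrullDim (↥S' : Type u) = topologicalKrullDim ↥{t : S | t ∈ S' ∧ t ⤳ s})
    (p : X ⟶ S) [LocallyOfFiniteType p]

include h2 h3 p

theorem const_near [∀ x : X, IsDomain (X.presheaf.stalk x)] (x₀ : X) :
    ∃ (V : Set X) (D : ℕ), IsOpen V ∧ x₀ ∈ V ∧ ∀ x ∈ V,
      topologicalKrullDim ↥(closure ({x} : Set X)) + ringKrullDim (X.presheaf.stalk x) = D := by
  have hXN : IsLocallyNoetherian X := LocallyOfFiniteType.isLocallyNoetherian p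
  obtain ⟨δ, hδ1, hδ2⟩ := exists_delta h2 h3 p
  obtain ⟨V, hV, hxV, hVc⟩ := exists_nhd (exists_noetherian_nhd X) isClosed_univ x₀
  obtain ⟨g₀, hg₀, hg₀'⟩ := exists_generic_of_isDomain x₀
  refine ⟨V, δ g₀, hV, hxV, fun x hx => ?_⟩
  obtain ⟨c, -, hcx, hcx₀⟩ := hVc x ⟨hx, trivial⟩
  obtain ⟨g, hg, hg'⟩ := exists_generic_of_isDomain x
  have h4 : g₀ ⤳ c := hg₀' c hcx₀
  have h5 : g ⤳ g₀ := hg' g₀ (h4.trans hcx)
  have h6 : g₀ ⤳ g := hg₀' g (h5.trans hg₀)
  have h7 := add_dim_generizations δ hδ1 isClosed_univ x trivial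
  rw [dim_closure_eq δ hδ2, ← dim_generizations_eq, h7]
  apply le_antisymm
  · refine iSup_le fun t => ?_
    have := delta_le δ hδ2 (h6.trans (hg' t t.2.2))
    exact_mod_cast this
  · exact le_iSup (fun t : ↥{t : X | t ∈ (Set.univ : Set X) ∧ t ⤳ x} => ((δ t : ℕ) : WithBot ℕ∞))
      ⟨g₀, trivial, h4.trans hcx⟩

/-- the dimension of the closure of a point does not change in an open neighbourhood -/
theorem dim_closure_openImmersion {U : Scheme.{u}} (j : U ⟶ X) [IsOpenImmersion j] (u : U) :
    topologicalKrullDim ↥(closure ({j u} : Set X)) = topologicalKrullDim ↥(closure ({u} : Set U)) := by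
  obtain ⟨δ, hδ1, hδ2⟩ := exists_delta h2 h3 p
  have h4 := hδ2 (Set.range j) j.isOpenEmbedding.isOpen_range (j u) ⟨u, rfl⟩
  rw [dim_closure_eq δ hδ2, ← h4]
  have hemb : IsEmbedding (fun z : ↥(closure ({u} : Set U)) => j z) :=
    j.isOpenEmbedding.isEmbedding.comp IsEmbedding.subtypeVal
  have hr : Set.range (fun z : ↥(closure ({u} : Set U)) => j z) =
      Set.range j ∩ closure ({j u} : Set X) := by
    ext y
    constructor
    · rintro ⟨z, rfl⟩
      refine ⟨⟨z, rfl⟩, ?_⟩
      exact specializes_iff_mem_closure.mp ((specializes_iff_mem_closure.mpr z.2).map j.continuous)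
    · rintro ⟨⟨z, rfl⟩, hz⟩
      refine ⟨⟨z, ?_⟩, rfl⟩
      rw [← specializes_iff_mem_closure, ← j.isOpenEmbedding.isInducing.specializes_iff]
      exact specializes_iff_mem_closure.mpr hz
  rw [← hr]
  exact (IsHomeomorph.topologicalKrullDim_eq _ hemb.toHomeomorph.isHomeomorph).symm

theorem exists_dim_closure (x : X) : ∃ n : ℕ, topologicalKrullDim ↥(closure ({x} : Set X)) = n := by
  obtain ⟨δ, hδ1, hδ2⟩ := exists_delta h2 h3 p
  exact ⟨δ x, dim_closure_eq δ hδ2 x⟩

end

/-- the dimension of the closure of a point does not change under closed immersions -/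
theorem dim_closure_closedImmersion {U : Scheme.{u}} (j : U ⟶ X) [IsClosedImmersion j] (u : U) :
    topologicalKrullDim ↥(closure ({j u} : Set X)) = topologicalKrullDim ↥(closure ({u} : Set U)) := by
  have hemb : IsEmbedding (fun z : ↥(closure ({u} : Set U)) => j z) :=
    j.isClosedEmbedding.isEmbedding.comp IsEmbedding.subtypeVal
  have hr : Set.range (fun z : ↥(closure ({u} : Set U)) => j z) = closure ({j u} : Set X) := by
    have h1 := j.isClosedEmbedding.closure_image_eq {u}
    rw [Set.image_singleton] at h1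
    rw [h1]
    ext y
    constructor
    · rintro ⟨z, rfl⟩
      exact ⟨z, z.2, rfl⟩
    · rintro ⟨z, hz, rfl⟩
      exact ⟨⟨z, hz⟩, rfl⟩
  rw [← hr]
  exact (IsHomeomorph.topologicalKrullDim_eq _ hemb.toHomeomorph.isHomeomorph).symm

end K122.HeightConst
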