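import Groth.Agent.KSix.K239.FlatFP
import Groth.Agent.Desc.FPSections

/-!
# The kernel of a surjection onto a finitely presented flat module is finitely presented

`ker_finitePresentation`: `B` an `A`-algebra of finite presentation, `u : M → N` a surjection of finitely presented
`B`-modules, `N` flat over `A`; then `ker u` is finitely presented.
-/

set_option autoImplicit false
universe u

namespace K122.KerFP

open Groth.Agent Groth.Agent.Flat2H

theorem fpn_one_iff {A M : Type u} [CommRing A] [AddCommGroup M] [Module A M] :
    FPn A 1 M ↔ Module.FinitePresentation A M := by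
  constructor
  · rintro ⟨k, f, hf, hk⟩
    have hk' : Module.Finite A (LinearMap.ker f) := hk
    exact Module.finitePresentation_of_surjective f hf (Module.Finite.iff_fg.1 hk')
  · intro h
    have : Module.Finite A M := inferInstance
    obtain ⟨n, f, hf⟩ := Module.Finite.exists_fin' A M
    exact ⟨n, f, hf, (Module.Finite.iff_fg.2 (Module.FinitePresentation.fg_ker f hf) :
      Module.Finite A (LinearMap.ker f))⟩

theorem ker_finitePresentation {A B M N : Type u} [CommRing A] [CommRing B] [Algebra A B]
    [Algebra.FinitePresentation A B] [AddCommGroup M] [AddCommGroup N] [Module B M] [Module B N]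
    [Module A N] [IsScalarTower A B N] [Module.FinitePresentation B M]
    [Module.FinitePresentation B N] [Module.Flat A N] (u : M →ₗ[B] N) (hu : Function.Surjective u) :
    Module.FinitePresentation B (LinearMap.ker u) := by
  obtain ⟨n, φ, hφ, hk⟩ := Algebra.FinitePresentation.out (R := A) (A := B)
  let P := MvPolynomial (Fin n) A
  let _ : Algebra P B := φ.toRingHom.toAlgebra
  have : IsScalarTower A P B := IsScalarTower.of_algebraMap_eq' φ.comp_algebraMap.symm
  let _ : Module P M := Module.compHom M φ.toRingHom
  let _ : Module P N := Module.compHom N φ.toRingHom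
  have hPM : IsScalarTower P B M := ⟨fun p s m => mul_smul (φ p) s m⟩
  have hPN : IsScalarTower P B N := ⟨fun p s m => mul_smul (φ p) s m⟩
  have hAPN : IsScalarTower A P N := ⟨fun a p m => by
    change (φ (a • p)) • m = a • (φ p • m)
    rw [map_smul, smul_assoc]⟩
  have hB : Module.FinitePresentation P B :=
    Module.finitePresentation_of_surjective (Algebra.linearMap P B) hφ hk
  have hM : Module.FinitePresentation P M := Module.FinitePresentation.trans P M B
  have hN : Module.FinitePresentation P N := Module.FinitePresentation.trans P N B
  have h2 : FPInf P N := K239.FlatFP.fpInf_of_flat (R := A)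
  have h1 : FPn P 1 M := fpn_one_iff.2 hM
  have h3 : FPn P 1 (LinearMap.ker (u.restrictScalars P)) :=
    FPn.ker (u.restrictScalars P) hu h1 (h2 2)
  have h4 : Module.FinitePresentation P (LinearMap.ker u) := fpn_one_iff.1 h3
  have h5 : Module.Finite P B := inferInstance
  exact Desc.FPSections.finitePresentation_of_restrictScalars P B (LinearMap.ker u)

end K122.KerFP
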