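import Groth.Agent.FlatA.ModelFlat

/-!
# Noetherian models of algebras flat at a prime

* `exists_algebra_model_flat`: `S` finitely presented over `R` and flat over `R` at the prime `q`; then
  `S = R ⊗ S₀` with `S₀` finitely presented over a finitely generated subring `R₀` of `R` and flat over
  `R₀` at the prime below `q`.
-/

set_option autoImplicit false
universe u

open TensorProduct

namespace K122.ModelFlatAt

open Groth.Agent.FlatA.Model Groth.Agent.FlatA.FlatDescent Groth.Agent.FlatA.ModelFlat

theorem flat_localizedModule_iff {R S : Type u} [CommRing R] [CommRing S] [Algebra R S]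
    (q : Ideal S) [q.IsPrime] :
    Module.Flat R (LocalizedModule q.primeCompl S) ↔ Module.Flat R (Localization.AtPrime q) := by
  let e : LocalizedModule q.primeCompl S ≃ₗ[S] Localization.AtPrime q :=
    IsLocalizedModule.linearEquiv q.primeCompl (LocalizedModule.mkLinearMap q.primeCompl S)
      (Algebra.linearMap S (Localization.AtPrime q))
  exact ⟨fun h => Module.Flat.of_linearEquiv (e.restrictScalars R).symm,
    fun h => Module.Flat.of_linearEquiv (e.restrictScalars R)⟩

theorem exists_algebra_model_flat {R S : Type u} [CommRing R] [CommRing S] [Algebra R S]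
    [Algebra.FinitePresentation R S] (q : Ideal S) [q.IsPrime]
    (h : Module.Flat R (Localization.AtPrime q)) :
    ∃ (R₀ : Subalgebra ℤ R) (S₀ : Type u) (_ : CommRing S₀) (_ : Algebra R₀ S₀) (_ : Algebra S₀ S)
      (_ : IsScalarTower R₀ S₀ S), R₀.FG ∧ Algebra.IsPushout R₀ R S₀ S ∧
      Algebra.FinitePresentation R₀ S₀ ∧ Module.Flat R₀ (Localization.AtPrime (q.under S₀)) := by
  obtain ⟨A, B, _, _, _, _, hA, -, hpush, hB, -⟩ :=
    exists_algebra_model (R := R) (S := S) ∅ ∅
  have : Algebra.FiniteType ℤ A := A.fg_iff_finiteType.mp hA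
  have : IsNoetherianRing A := Algebra.FiniteType.isNoetherianRing ℤ A
  have hg : IsBaseChange S (Algebra.linearMap B S) := IsBaseChange.linearMap B S
  obtain ⟨A₁, hA₁, H⟩ := exists_subalgebra_flat (A := A) (B := B) (N := B) (R := R) (S := S) (M := S)
    (Algebra.linearMap B S) hg q ((flat_localizedModule_iff q).2 h)
  obtain ⟨B₁, -, _, _, _, _, _, _, _, _, _, _, -⟩ :=
    exists_level_model (A := A) (B := B) (N := B) (R := R) (S := S) A₁
  have hflat := H A₁ le_rfl B₁ B₁ (Algebra.linearMap B B₁) (IsBaseChange.linearMap B B₁)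
  have _ : IsScalarTower A B₁ S := IsScalarTower.of_algebraMap_eq fun x ↦ by
    rw [IsScalarTower.algebraMap_apply A B B₁, ← IsScalarTower.algebraMap_apply B B₁ S,
      ← IsScalarTower.algebraMap_apply A B S]
  have i1 : Algebra.IsPushout A₁ R B₁ S :=
    (Algebra.IsPushout.comp_iff (R := A) (S := A₁) (R' := B) (S' := B₁) (T := R)
      (T' := S)).mp hpush
  have i2 : Algebra.FinitePresentation A₁ B₁ := finitePresentation_of_isPushout (A := A) (B := B)
  let R₁ : Subalgebra ℤ R := A₁.restrictScalars ℤ
  let _ : Algebra R₁ B₁ := ‹Algebra A₁ B₁›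
  have _ : IsScalarTower R₁ B₁ S := ‹IsScalarTower A₁ B₁ S›
  refine ⟨R₁, B₁, inferInstance, inferInstance, inferInstance, inferInstance, ?_, i1, i2,
    (flat_localizedModule_iff (R := A₁) (S := B₁) (q.under B₁)).1 hflat⟩
  have : Algebra.FiniteType A A₁ := A₁.fg_iff_finiteType.mp hA₁
  have : Algebra.FiniteType ℤ A₁ := Algebra.FiniteType.trans (S := A) inferInstance inferInstance
  exact R₁.fg_iff_finiteType.mpr this

end K122.ModelFlatAt
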