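import Mathlib.RingTheory.Localization.BaseChange
import Mathlib.RingTheory.Localization.AtPrime.Basic
import Mathlib.RingTheory.LocalRing.MaximalIdeal.Basic

/-!
# Localizations of a pushout as localizations of the pushout of localizations

* `exists_prime_tensor`: `B = A ⊗ B₀` over `A₀`, `q` a prime of `B` over `p` in `A`, `g ∈ B₀` not in `q`;
  then `B_q` is the local ring of `A_p ⊗ (B₀)_g` at a prime over the maximal ideal of `A_p`.
-/

set_option autoImplicit false
universe u

open TensorProduct IsLocalRing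

namespace K122.TensorLoc

variable {A₀ A B₀ B : Type u} [CommRing A₀] [CommRing A] [CommRing B₀] [CommRing B]
  [Algebra A₀ A] [Algebra A₀ B₀] [Algebra A B] [Algebra B₀ B] [Algebra A₀ B]
  [IsScalarTower A₀ A B] [IsScalarTower A₀ B₀ B] [Algebra.IsPushout A₀ A B₀ B]

theorem exists_prime_tensor (p : Ideal A) [p.IsPrime] (q : Ideal B) [q.IsPrime]
    (hp : q.comap (algebraMap A B) = p) (g : B₀) (hg : algebraMap B₀ B g ∉ q) :
    ∃ (Q : Ideal (Localization.AtPrime p ⊗[A₀] Localization.Away g)) (_ : Q.IsPrime),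
      Q.comap (algebraMap (Localization.AtPrime p)
        (Localization.AtPrime p ⊗[A₀] Localization.Away g)) =
          maximalIdeal (Localization.AtPrime p) ∧
      Nonempty (Localization.AtPrime Q ≃+* Localization.AtPrime q) := by
  let Ap := Localization.AtPrime p
  let C := Localization.Away g
  let T := Ap ⊗[A₀] C
  let Bq := Localization.AtPrime q
  -- the maps
  have hfunit : ∀ y : p.primeCompl, IsUnit ((IsScalarTower.toAlgHom A₀ A Bq) y) := by
    intro y
    have h1 : algebraMap A B y ∉ q := fun h => y.2 (hp.le h)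
    have h2 := IsLocalization.map_units Bq (⟨algebraMap A B y, h1⟩ : q.primeCompl)
    rw [IsScalarTower.coe_toAlgHom', IsScalarTower.algebraMap_apply A B Bq]
    exact h2
  let f : Ap →ₐ[A₀] Bq := IsLocalization.liftAlgHom (M := p.primeCompl)
    (f := IsScalarTower.toAlgHom A₀ A Bq) hfunit
  have hf : ∀ a, f (algebraMap A Ap a) = algebraMap A Bq a := fun a => by
    simp [f]
  have hcunit : ∀ y : Submonoid.powers g, IsUnit ((IsScalarTower.toAlgHom A₀ B₀ Bq) y) := by
    rintro ⟨_, n, rfl⟩
    have h2 := IsLocalization.map_units Bq (⟨algebraMap B₀ B g, hg⟩ : q.primeCompl)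
    rw [IsScalarTower.coe_toAlgHom', map_pow, IsScalarTower.algebraMap_apply B₀ B Bq]
    exact h2.pow n
  let h : C →ₐ[A₀] Bq := IsLocalization.liftAlgHom (M := Submonoid.powers g)
    (f := IsScalarTower.toAlgHom A₀ B₀ Bq) hcunit
  have hh : ∀ b, h (algebraMap B₀ C b) = algebraMap B₀ Bq b := fun b => by
    simp [h]
  let φ : T →ₐ[A₀] Bq := Algebra.TensorProduct.lift f h fun _ _ => Commute.all _ _
  let ψ : B →ₐ[A₀] T := (Algebra.TensorProduct.map (IsScalarTower.toAlgHom A₀ A Ap)
    (IsScalarTower.toAlgHom A₀ B₀ C)).comp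
    (((Algebra.IsPushout.equiv A₀ A B₀ B).symm.toAlgHom).restrictScalars A₀)
  have hψ : ∀ (a : A) (b : B₀), ψ (algebraMap A B a * algebraMap B₀ B b) =
      (algebraMap A Ap a) ⊗ₜ (algebraMap B₀ C b) := by
    intro a b
    change (Algebra.TensorProduct.map (IsScalarTower.toAlgHom A₀ A Ap)
      (IsScalarTower.toAlgHom A₀ B₀ C)) ((Algebra.IsPushout.equiv A₀ A B₀ B).symm _) = _
    rw [← Algebra.IsPushout.equiv_tmul (R := A₀), AlgEquiv.symm_apply_apply, Algebra.TensorProduct.map_tmul]
    rfl
  have hφψ : ∀ b : B, φ (ψ b) = algebraMap B Bq b := by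
    intro b
    obtain ⟨x, rfl⟩ := (Algebra.IsPushout.equiv A₀ A B₀ B).surjective b
    induction x using TensorProduct.induction_on with
    | zero => simp
    | tmul a b =>
      rw [Algebra.IsPushout.equiv_tmul, hψ]
      change (Algebra.TensorProduct.lift f h fun _ _ => Commute.all _ _) _ = _
      rw [Algebra.TensorProduct.lift_tmul, hf, hh, map_mul, ← IsScalarTower.algebraMap_apply,
        ← IsScalarTower.algebraMap_apply]
    | add x y hx hy => rw [map_add, map_add, map_add, map_add, hx, hy]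
  have key : ∀ x : T, ∃ s b : B, IsUnit (ψ s) ∧ ψ s * x = ψ b := by
    intro x
    induction x using TensorProduct.induction_on with
    | zero => exact ⟨1, 0, by rw [map_one]; exact isUnit_one, by rw [mul_zero, map_zero]⟩
    | tmul a c =>
      obtain ⟨a, t, rfl⟩ := IsLocalization.exists_mk'_eq p.primeCompl a
      obtain ⟨c, n, rfl⟩ := IsLocalization.exists_mk'_eq (Submonoid.powers g) c
      refine ⟨algebraMap A B t * algebraMap B₀ B n, algebraMap A B a * algebraMap B₀ B c, ?_, ?_⟩
      · rw [hψ]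
        have h1 : (algebraMap A Ap t) ⊗ₜ[A₀] (algebraMap B₀ C n) =
            (algebraMap A Ap t ⊗ₜ[A₀] (1 : C)) * ((1 : Ap) ⊗ₜ[A₀] algebraMap B₀ C n) := by
          rw [Algebra.TensorProduct.tmul_mul_tmul, mul_one, one_mul]
        rw [h1]
        exact ((IsLocalization.map_units Ap t).map
          (Algebra.TensorProduct.includeLeft (R := A₀) (S := A₀) (A := Ap) (B := C))).mul
          ((IsLocalization.map_units C n).map
          (Algebra.TensorProduct.includeRight (R := A₀) (A := Ap) (B := C)))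
      · rw [hψ, hψ, Algebra.TensorProduct.tmul_mul_tmul, mul_comm (algebraMap A Ap t),
          IsLocalization.mk'_spec, mul_comm (algebraMap B₀ C n), IsLocalization.mk'_spec]
    | add x y hx hy =>
      obtain ⟨s₁, b₁, h1, h2⟩ := hx
      obtain ⟨s₂, b₂, h3, h4⟩ := hy
      refine ⟨s₁ * s₂, s₂ * b₁ + s₁ * b₂, ?_, ?_⟩
      · rw [map_mul]; exact h1.mul h3
      · rw [map_mul, map_add, map_mul, map_mul, ← h2, ← h4]; ring
  let Q : Ideal T := (maximalIdeal Bq).comap φ
  have hQp : Q.IsPrime := inferInstance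
  have hunit : ∀ x : T, x ∉ Q ↔ IsUnit (φ x) := fun x => by
    change ¬ (φ x ∈ maximalIdeal Bq) ↔ _
    rw [mem_maximalIdeal, mem_nonunits_iff, not_not]
  let _ : Algebra T Bq := φ.toRingHom.toAlgebra
  have hloc : IsLocalization.AtPrime Bq Q := by
    refine ⟨⟨fun x => ?_, fun z => ?_, fun {x y} hxy => ?_⟩⟩
    · exact (hunit x).1 x.2
    · obtain ⟨b, s, rfl⟩ := IsLocalization.exists_mk'_eq q.primeCompl z
      refine ⟨⟨ψ b, ⟨ψ s, (hunit _).2 ?_⟩⟩, ?_⟩
      · rw [hφψ]
        exact IsLocalization.map_units Bq s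
      · change _ * φ (ψ s) = φ (ψ b)
        rw [hφψ, hφψ, IsLocalization.mk'_spec]
    · change φ x = φ y at hxy
      obtain ⟨s, b, hs, hb⟩ := key (x - y)
      have h1 : algebraMap B Bq b = 0 := by
        rw [← hφψ, ← hb, map_mul, map_sub, hxy, sub_self, mul_zero]
      obtain ⟨m, hm⟩ := (IsLocalization.map_eq_zero_iff q.primeCompl Bq b).1 h1
      refine ⟨⟨ψ m * ψ s, (hunit _).2 ?_⟩, ?_⟩
      · rw [map_mul, hφψ]
        exact (IsLocalization.map_units Bq m).mul (hs.map φ)
      · have h2 : (ψ m * ψ s) * (x - y) = 0 := by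
          rw [mul_assoc, hb, ← map_mul, hm, map_zero]
        rw [mul_sub, sub_eq_zero] at h2
        exact h2
  refine ⟨Q, hQp, ?_, ⟨(IsLocalization.algEquiv Q.primeCompl (Localization.AtPrime Q) Bq).toRingEquiv⟩⟩
  -- the comap
  have h1 : ∀ a : Ap, φ (algebraMap Ap T a) = f a := by
    intro a
    change (Algebra.TensorProduct.lift f h fun _ _ => Commute.all _ _) (a ⊗ₜ 1) = _
    rw [Algebra.TensorProduct.lift_tmul, map_one, mul_one]
  ext a
  change φ (algebraMap Ap T a) ∈ maximalIdeal Bq ↔ _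
  rw [h1, mem_maximalIdeal, mem_maximalIdeal, mem_nonunits_iff, mem_nonunits_iff, not_iff_not]
  refine ⟨fun hu => ?_, fun hu => hu.map f⟩
  obtain ⟨a, t, rfl⟩ := IsLocalization.exists_mk'_eq p.primeCompl a
  have h2 : f (IsLocalization.mk' Ap a t) * f (algebraMap A Ap t) = algebraMap A Bq a := by
    rw [← map_mul, IsLocalization.mk'_spec, hf]
  have h3 : IsUnit (algebraMap A Bq a) := by
    rw [← h2]
    exact hu.mul ((IsLocalization.map_units Ap t).map f)
  have h4 : a ∉ p := by
    intro ha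
    rw [← hp] at ha
    have h5 : algebraMap B Bq (algebraMap A B a) ∈ maximalIdeal Bq :=
      (IsLocalization.AtPrime.to_map_mem_maximal_iff Bq q _).2 ha
    rw [← IsScalarTower.algebraMap_apply A B Bq] at h5
    exact h5 h3
  exact IsLocalization.AtPrime.isUnit_mk'_iff Ap p a t |>.2 h4

end K122.TensorLoc
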