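import Groth.Agent.S2730
import Groth.Agent.Ega43.GeomIntBC
import Groth.Agent.Ega4fib.H173.NormalLocus
import Groth.Agent.Flat2G.EtUnibranch
import Groth.Agent.EGA4.K113.FieldFib
import Groth.Agent.EGA43.K122.GeomNorFin
import Groth.Agent.EGA43.K122.TensorLoc
import Groth.Agent.EGA43.K122.ModelFlatAt

/-!
# Geometric unibranchness ascends along algebras normal at a prime

* `isNormalHom_away`: if `A₀ → B₀` is flat and geometrically normal at all primes of `D(g)` then
  `A₀ → (B₀)_g` is a normal homomorphism;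
* `isGeomUnibranch_localization`: `B` finitely presented over `A`, flat and geometrically normal at `q`
  over `p`, and `A_p` geometrically unibranch; then so is `B_q` (assuming openness of the flat and
  geometrically normal locus over finitely generated rings).
-/

set_option autoImplicit false
universe u

open TensorProduct CategoryTheory AlgebraicGeometry

namespace K122.NormUnibranch

open Groth.Agent.Ega43.GeomAt Groth.Agent.Ega4fib.H173.NormalPoint Groth.Agent.Ega4C
  Groth.Agent.Ega4fib.H173.NormalLocus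

/-- Flatness and geometric normality on `D(g)`. -/
theorem isNormalHom_away (A₀ B₀ : Type u) [CommRing A₀] [CommRing B₀] [Algebra A₀ B₀] (g : B₀)
    (h : ∀ (r : Ideal B₀) [r.IsPrime], g ∉ r →
      Module.Flat A₀ (Localization.AtPrime r) ∧ GeomAtAlg (fun R _ => PNor R) A₀ B₀ r) :
    EGA4.IsNormalHom A₀ (Localization.Away g) := by
  let C := Localization.Away g
  constructor
  · refine Module.flat_of_isLocalized_maximal (R := A₀) (S := C) C
      (fun P _ => Localization.AtPrime P)
      (fun P _ => Algebra.linearMap C (Localization.AtPrime P)) fun P _ => ?_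
    let r : Ideal B₀ := P.comap (algebraMap B₀ C)
    have hg : g ∉ r := fun hgr =>
      Ideal.IsPrime.ne_top (I := P) inferInstance
        (Ideal.eq_top_of_isUnit_mem _ hgr (IsLocalization.Away.algebraMap_isUnit g))
    have h1 := (h r hg).1
    have h2 : IsLocalization.AtPrime (Localization.AtPrime P) r :=
      IsLocalization.isLocalization_isLocalization_atPrime_isLocalization
        (Submonoid.powers g) (Localization.AtPrime P) P
    let e : Localization.AtPrime r ≃ₐ[B₀] Localization.AtPrime P :=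
      IsLocalization.algEquiv r.primeCompl _ _
    exact Module.Flat.of_linearEquiv (e.toLinearEquiv.restrictScalars A₀).symm
  · refine K113.FieldFib.isGeomNormal_of_field_tensor fun K _ _ => ?_
    refine NormUnion.isNormalRing_of_ringEquiv
      (Algebra.TensorProduct.comm A₀ K C).toRingEquiv ?_
    intro N hN
    let _ : Algebra (B₀ ⊗[A₀] K) (C ⊗[A₀] K) :=
      (Algebra.TensorProduct.map (IsScalarTower.toAlgHom A₀ B₀ C)
        (AlgHom.id A₀ K)).toRingHom.toAlgebra
    have hloc : IsLocalization (Algebra.algebraMapSubmonoid (B₀ ⊗[A₀] K) (Submonoid.powers g))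
        (C ⊗[A₀] K) :=
      Groth.Agent.LoccohB.GorFibre3.isLocalization_tensor K (Submonoid.powers g)
    let Q : Ideal (B₀ ⊗[A₀] K) := N.comap (algebraMap (B₀ ⊗[A₀] K) (C ⊗[A₀] K))
    let r : Ideal B₀ := Q.comap (algebraMap B₀ (B₀ ⊗[A₀] K))
    have hg : g ∉ r := by
      intro hgr
      have h1 : algebraMap (B₀ ⊗[A₀] K) (C ⊗[A₀] K) (algebraMap B₀ (B₀ ⊗[A₀] K) g) ∈ N := hgr
      have h2 : IsUnit (algebraMap (B₀ ⊗[A₀] K) (C ⊗[A₀] K) (algebraMap B₀ (B₀ ⊗[A₀] K) g)) :=
        IsLocalization.map_units (C ⊗[A₀] K)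
          (⟨algebraMap B₀ (B₀ ⊗[A₀] K) g, ⟨g, Submonoid.mem_powers g, rfl⟩⟩ :
            Algebra.algebraMapSubmonoid (B₀ ⊗[A₀] K) (Submonoid.powers g))
      exact hN.ne_top (Ideal.eq_top_of_isUnit_mem _ h1 h2)
    have h3 : PNor (Localization.AtPrime Q) := (h r hg).2 K Q rfl
    have h4 : IsLocalization.AtPrime (Localization.AtPrime N) Q :=
      IsLocalization.isLocalization_isLocalization_atPrime_isLocalization
        (Algebra.algebraMapSubmonoid (B₀ ⊗[A₀] K) (Submonoid.powers g)) (Localization.AtPrime N) N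
    let e : Localization.AtPrime Q ≃ₐ[B₀ ⊗[A₀] K] Localization.AtPrime N :=
      IsLocalization.algEquiv Q.primeCompl _ _
    exact isoClosed_PNor _ _ e.toRingEquiv h3

/-- Openness of the flat and geometrically normal locus (over finitely generated rings). -/
def HOpen : Prop := ∀ (A₀ B₀ : Type u) [CommRing A₀] [CommRing B₀] [Algebra A₀ B₀]
  [Algebra.FiniteType ℤ A₀] [Algebra.FinitePresentation A₀ B₀] (q : Ideal B₀) [q.IsPrime],
  Module.Flat A₀ (Localization.AtPrime q) → GeomAtAlg (fun R _ => PNor R) A₀ B₀ q →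
    ∃ g, g ∉ q ∧ ∀ (r : Ideal B₀) [r.IsPrime], g ∉ r →
      Module.Flat A₀ (Localization.AtPrime r) ∧ GeomAtAlg (fun R _ => PNor R) A₀ B₀ r

theorem isGeomUnibranch_of_model {A₀ A B₀ B : Type u} [CommRing A₀] [CommRing A] [CommRing B₀]
    [CommRing B] [Algebra A₀ A] [Algebra A₀ B₀] [Algebra A B] [Algebra B₀ B] [Algebra A₀ B]
    [IsScalarTower A₀ A B] [IsScalarTower A₀ B₀ B] [Algebra.IsPushout A₀ A B₀ B]
    [IsNoetherianRing A₀] [IsNoetherianRing B₀] (p : Ideal A) [p.IsPrime] (q : Ideal B) [q.IsPrime]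
    (hp : q.comap (algebraMap A B) = p) (g : B₀) (hg : algebraMap B₀ B g ∉ q)
    (hN : EGA4.IsNormalHom A₀ (Localization.Away g))
    (hA : CAlg2.IsGeomUnibranch (Localization.AtPrime p)) :
    CAlg2.IsGeomUnibranch (Localization.AtPrime q) := by
  obtain ⟨Q, hQp, hQ, ⟨e⟩⟩ := K122.TensorLoc.exists_prime_tensor (A₀ := A₀) (A := A) (B₀ := B₀)
    (B := B) p q hp g hg
  have : IsNoetherianRing (Localization.Away g) :=
    IsLocalization.isNoetherianRing (Submonoid.powers g) _ inferInstance
  have h1 := (Groth.Agent.S2730.result A₀ (Localization.Away g) hN (Localization.AtPrime p) hA Q hQ).1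
  exact Groth.Agent.Flat2G.EtUnibranch.isGeomUnibranch_of_ringEquiv e h1

theorem isGeomUnibranch_localization (hopen : HOpen.{u}) (A B : Type u) [CommRing A] [CommRing B]
    [Algebra A B] [Algebra.FinitePresentation A B] (p : Ideal A) [p.IsPrime] (q : Ideal B) [q.IsPrime]
    (hp : q.comap (algebraMap A B) = p) (hflat : Module.Flat A (Localization.AtPrime q))
    (hnor : GeomAtAlg (fun R _ => PNor R) A B q)
    (hA : CAlg2.IsGeomUnibranch (Localization.AtPrime p)) :
    CAlg2.IsGeomUnibranch (Localization.AtPrime q) := by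
  obtain ⟨A₀, B₀, _, _, _, _, hA₀, hpush, hB₀, hflat₀⟩ :=
    K122.ModelFlatAt.exists_algebra_model_flat (R := A) (S := B) q hflat
  have hft : Algebra.FiniteType ℤ A₀ := A₀.fg_iff_finiteType.mp hA₀
  have : IsNoetherianRing A₀ := Algebra.FiniteType.isNoetherianRing ℤ A₀
  have hpush' : Algebra.IsPushout A₀ B₀ A B := hpush.symm
  have hnor₀ : GeomAtAlg (fun R _ => PNor R) A₀ B₀ (q.comap (algebraMap B₀ B)) :=
    (Groth.Agent.Ega43.GeomIntBC.geomAtAlg_iff_of_isPushout isoClosed_PNor flatDesc_PNor A₀ A B₀ B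
      q).1 hnor
  obtain ⟨g, hg, hgr⟩ := hopen A₀ B₀ (q.comap (algebraMap B₀ B)) hflat₀ hnor₀
  have hN := isNormalHom_away A₀ B₀ g hgr
  have : IsNoetherianRing B₀ := Algebra.FiniteType.isNoetherianRing A₀ B₀
  exact isGeomUnibranch_of_model (A₀ := A₀) (A := A) (B₀ := B₀) p q hp g hg hN hA

end K122.NormUnibranch
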