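import Groth.Agent.EGA43.K122.NormUnibranch
import Groth.Agent.FlatA.FlatStalk
import Mathlib.AlgebraicGeometry.Morphisms.FinitePresentation

/-!
# Geometric unibranchness ascends along morphisms normal at a point (scheme form)
-/

set_option autoImplicit false
universe u

open TensorProduct CategoryTheory AlgebraicGeometry

namespace K122.NormUnibranchSch

open Groth.Agent.Ega43.GeomAt Groth.Agent.Ega4fib.H173.NormalPoint K122.NormUnibranch

/-- Flatness of the stalk map of `Spec S ⟶ Spec R`. -/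
theorem flat_stalkMap_Spec_iff {R S : Type u} [CommRing R] [CommRing S] [Algebra R S]
    (Q : PrimeSpectrum S) :
    ((Spec.map (CommRingCat.ofHom (algebraMap R S))).stalkMap Q).hom.Flat ↔
      Module.Flat R (Localization.AtPrime Q.asIdeal) := by
  let p := Q.asIdeal.comap (algebraMap R S)
  have : Q.asIdeal.LiesOver p := ⟨rfl⟩
  let := Localization.AtPrime.algebraOfLiesOver p Q.asIdeal
  trans Module.Flat (Localization.AtPrime p) (Localization.AtPrime Q.asIdeal)
  · rw [← RingHom.flat_algebraMap_iff]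
    exact RingHom.Flat.respectsIso.arrow_mk_iso_iff
      (Scheme.arrowStalkMapSpecIso (CommRingCat.ofHom (algebraMap R S)) Q)
  · exact Module.flat_iff_of_isLocalization (Localization.AtPrime p) p.primeCompl _

/-- `HOpen` from openness of the flat and geometrically normal locus of morphisms of schemes. -/
theorem hOpen_of (h : ∀ {X Y : Scheme.{u}} (f : X ⟶ Y) [LocallyOfFinitePresentation f],
    IsOpen {x : X | (f.stalkMap x).hom.Flat ∧ GeomAt (fun R _ => PNor R) f x}) : HOpen.{u} := by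
  intro A₀ B₀ _ _ _ _ _ q _ hflat hnor
  let f : Spec (CommRingCat.of B₀) ⟶ Spec (CommRingCat.of A₀) :=
    Spec.map (CommRingCat.ofHom (algebraMap A₀ B₀))
  have hf : LocallyOfFinitePresentation f := by
    rw [HasRingHomProperty.Spec_iff (P := @LocallyOfFinitePresentation)]
    exact (RingHom.finitePresentation_algebraMap).2 inferInstance
  have h1 := h f
  have key : ∀ r : PrimeSpectrum B₀, r ∈ {x : ↥(Spec (CommRingCat.of B₀)) |
      (f.stalkMap x).hom.Flat ∧ GeomAt (fun R _ => PNor R) f x} ↔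
      (Module.Flat A₀ (Localization.AtPrime r.asIdeal) ∧
        GeomAtAlg (fun R _ => PNor R) A₀ B₀ r.asIdeal) := fun r =>
    and_congr (flat_stalkMap_Spec_iff r) (geomAt_Spec_iff isoClosed_PNor A₀ B₀ r)
  obtain ⟨t, ⟨g, rfl⟩, hqt, ht⟩ :=
    (PrimeSpectrum.isTopologicalBasis_basic_opens.exists_subset_of_mem_open
      ((key ⟨q, inferInstance⟩).2 ⟨hflat, hnor⟩) h1)
  refine ⟨g, hqt, fun r _ hr => (key ⟨r, inferInstance⟩).1 (ht ?_)⟩
  exact hr

theorem isGeomUnibranch_stalk (hopen : HOpen.{u}) {X Y : Scheme.{u}} (f : X ⟶ Y)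
    [LocallyOfFinitePresentation f] (x : X)
    (hY : CAlg2.IsGeomUnibranch ↑(Y.presheaf.stalk (f x))) (hflat : (f.stalkMap x).hom.Flat)
    (hnor : GeomAt (fun R _ => PNor R) f x) :
    CAlg2.IsGeomUnibranch ↑(X.presheaf.stalk x) := by
  obtain ⟨U, hU, hyU, -⟩ := exists_isAffineOpen_mem_and_subset (x := f x) (U := (⊤ : Y.Opens)) trivial
  obtain ⟨V, hV, hxV, hVU⟩ := exists_isAffineOpen_mem_and_subset (x := x) (U := f ⁻¹ᵁ U) hyU
  let := (f.appLE U V hVU).hom.toAlgebra
  let p := (hU.primeIdealOf ⟨f x, hVU hxV⟩).asIdeal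
  let q := (hV.primeIdealOf ⟨x, hxV⟩).asIdeal
  have hp : q.comap (algebraMap Γ(Y, U) Γ(X, V)) = p :=
    congr($(IsAffineOpen.comap_primeIdealOf_appLE U hU V hV hVU hxV).1)
  have hFP : Algebra.FinitePresentation Γ(Y, U) Γ(X, V) := by
    have h1 := HasRingHomProperty.appLE @LocallyOfFinitePresentation f inferInstance ⟨U, hU⟩ ⟨V, hV⟩ hVU
    exact (RingHom.finitePresentation_algebraMap).1 h1
  have h1 : Module.Flat Γ(Y, U) (Localization.AtPrime q) :=
    (Groth.Agent.FlatA.FlatStalk.flat_stalkMap_iff U hU V hV hVU hxV).1 hflat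
  have h2 : GeomAtAlg (fun R _ => PNor R) Γ(Y, U) Γ(X, V) q := by
    have e1 : hV.fromSpec ≫ f =
        Spec.map (CommRingCat.ofHom (algebraMap Γ(Y, U) Γ(X, V))) ≫ hU.fromSpec :=
      (IsAffineOpen.SpecMap_appLE_fromSpec f hU hV hVU).symm
    have e2 : hV.fromSpec.base (hV.primeIdealOf ⟨x, hxV⟩) = x := hV.fromSpec_primeIdealOf ⟨x, hxV⟩
    have h3 : GeomAt (fun R _ => PNor R) (hV.fromSpec ≫ f) (hV.primeIdealOf ⟨x, hxV⟩) := by
      rw [geomAt_comp_openImmersion isoClosed_PNor, e2]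
      exact hnor
    rw [e1, geomAt_comp_openImmersion_target] at h3
    exact (geomAt_Spec_iff isoClosed_PNor _ _ _).1 h3
  have h3 : CAlg2.IsGeomUnibranch (Localization.AtPrime p) := by
    let _ : Algebra Γ(Y, U) ↑(Y.presheaf.stalk (f x)) :=
      Y.presheaf.algebra_section_stalk ⟨f x, hVU hxV⟩
    have : IsLocalization.AtPrime ↑(Y.presheaf.stalk (f x)) p :=
      hU.isLocalization_stalk ⟨f x, hVU hxV⟩
    let e : ↑(Y.presheaf.stalk (f x)) ≃ₐ[Γ(Y, U)] Localization.AtPrime p :=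
      IsLocalization.algEquiv p.primeCompl _ _
    exact Groth.Agent.Flat2G.EtUnibranch.isGeomUnibranch_of_ringEquiv e.toRingEquiv hY
  have h4 := isGeomUnibranch_localization hopen Γ(Y, U) Γ(X, V) p q hp h1 h2 h3
  let _ : Algebra Γ(X, V) ↑(X.presheaf.stalk x) := X.presheaf.algebra_section_stalk ⟨x, hxV⟩
  have : IsLocalization.AtPrime ↑(X.presheaf.stalk x) q := hV.isLocalization_stalk ⟨x, hxV⟩
  let e : ↑(X.presheaf.stalk x) ≃ₐ[Γ(X, V)] Localization.AtPrime q :=
    IsLocalization.algEquiv q.primeCompl _ _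
  exact Groth.Agent.Flat2G.EtUnibranch.isGeomUnibranch_of_ringEquiv e.symm.toRingEquiv h4

end K122.NormUnibranchSch
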