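import Mathlib.Topology.LocallyClosed
import Mathlib.Topology.Constructible
import Mathlib.Topology.NoetherianSpace
import Mathlib.Topology.Sets.Opens

/-!
# Quasi-homeomorphisms (EGA IV 10.2)

Basic API for continuous maps `f : X → Y` such that `U ↦ f ⁻¹' U` is a bijection on open sets.
-/

set_option autoImplicit false

open Topology TopologicalSpace Set

namespace K122.QuasiHomeo

variable {X Y : Type*} [TopologicalSpace X] [TopologicalSpace Y]

/-- quasi-homeomorphism: `f` is continuous and `U ↦ f ⁻¹' U` is a bijection on open sets. -/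
structure QH (f : X → Y) : Prop where
  cont : Continuous f
  inj : ∀ U₁ U₂ : Set Y, IsOpen U₁ → IsOpen U₂ → f ⁻¹' U₁ = f ⁻¹' U₂ → U₁ = U₂
  surj : ∀ V : Set X, IsOpen V → ∃ U : Set Y, IsOpen U ∧ f ⁻¹' U = V

theorem QH.of_bijective {f : X → Y} (hf : Continuous f)
    (hq : Function.Bijective (fun U : TopologicalSpace.Opens Y =>
      (⟨f ⁻¹' (U : Set Y), U.isOpen.preimage hf⟩ : TopologicalSpace.Opens X))) : QH f where
  cont := hf
  inj := fun U₁ U₂ h₁ h₂ h => by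
    have := hq.1 (a₁ := ⟨U₁, h₁⟩) (a₂ := ⟨U₂, h₂⟩) (by ext1; exact h)
    exact congrArg (fun U : Opens Y => (U : Set Y)) this
  surj := fun V hV => by
    obtain ⟨U, hU⟩ := hq.2 ⟨V, hV⟩
    exact ⟨U, U.isOpen, congrArg (fun U : Opens X => (U : Set X)) hU⟩

theorem QH.subset_iff {f : X → Y} (h : QH f) {U₁ U₂ : Set Y} (h₁ : IsOpen U₁) (h₂ : IsOpen U₂) :
    f ⁻¹' U₁ ⊆ f ⁻¹' U₂ ↔ U₁ ⊆ U₂ := by
  constructor
  · intro hs
    have : U₁ ∪ U₂ = U₂ := by
      apply h.inj _ _ (h₁.union h₂) h₂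
      rw [preimage_union, union_eq_right.mpr hs]
    exact union_eq_right.mp this
  · intro hs
    exact preimage_mono hs

theorem QH.eq_empty_of_isLocallyClosed {f : X → Y} (h : QH f) {Z : Set Y}
    (hZ : IsLocallyClosed Z) (he : f ⁻¹' Z = ∅) : Z = ∅ := by
  obtain ⟨U, C, hU, hC, rfl⟩ := hZ
  have h1 : f ⁻¹' U ⊆ f ⁻¹' Cᶜ := by
    intro x hx hxC
    have : x ∈ f ⁻¹' (U ∩ C) := ⟨hx, hxC⟩
    rw [he] at this
    exact this
  rw [h.subset_iff hU hC.isOpen_compl] at h1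
  rw [eq_empty_iff_forall_notMem]
  rintro y ⟨hyU, hyC⟩
  exact h1 hyU hyC

theorem QH.nonempty_preimage {f : X → Y} (h : QH f) {Z : Set Y}
    (hZ : IsLocallyClosed Z) (hne : Z.Nonempty) : (f ⁻¹' Z).Nonempty := by
  by_contra hc
  rw [not_nonempty_iff_eq_empty] at hc
  rw [h.eq_empty_of_isLocallyClosed hZ hc] at hne
  exact not_nonempty_empty hne

/-- locally quasi-constructible sets -/
def LQC (Z : Set Y) : Prop :=
  ∀ y : Y, ∃ U : Set Y, IsOpen U ∧ y ∈ U ∧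
    ∃ T : Set (Set Y), T.Finite ∧ (∀ t ∈ T, IsLocallyClosed t) ∧ U ∩ Z = ⋃₀ T

theorem QH.restrictPreimage {f : X → Y} (h : QH f) {Y' : Set Y} (hY' : LQC Y') :
    QH (Y'.restrictPreimage f) where
  cont := h.cont.restrictPreimage
  surj := by
    intro V hV
    obtain ⟨V₁, hV₁, rfl⟩ := isOpen_induced_iff.mp hV
    obtain ⟨U₁, hU₁, rfl⟩ := h.surj V₁ hV₁
    exact ⟨Subtype.val ⁻¹' U₁, hU₁.preimage continuous_subtype_val, rfl⟩
  inj := by
    have key : ∀ U₁ U₂ : Set ↥Y', IsOpen U₁ → IsOpen U₂ →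
      (Y'.restrictPreimage f) ⁻¹' U₁ = (Y'.restrictPreimage f) ⁻¹' U₂ → U₁ ⊆ U₂ := by
      intro U₁ U₂ h₁ h₂ heq
      obtain ⟨W₁, hW₁, rfl⟩ := isOpen_induced_iff.mp h₁
      obtain ⟨W₂, hW₂, rfl⟩ := isOpen_induced_iff.mp h₂
      rintro ⟨y, hy⟩ hyW₁
      by_contra hyW₂
      simp only [mem_preimage] at hyW₁ hyW₂
      obtain ⟨U, hU, hyU, T, hT, hTc, hUT⟩ := hY' y
      have : y ∈ ⋃₀ T := by rw [← hUT]; exact ⟨hyU, hy⟩
      obtain ⟨t, htT, hyt⟩ := this
      have hlc : IsLocallyClosed (t ∩ (W₁ ∩ W₂ᶜ)) :=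
        (hTc t htT).inter ((hW₁.isLocallyClosed).inter (hW₂.isClosed_compl).isLocallyClosed)
      obtain ⟨x, hxt, hxW₁, hxW₂⟩ := h.nonempty_preimage hlc ⟨y, hyt, hyW₁, hyW₂⟩
      have hxY' : f x ∈ Y' := by
        have : f x ∈ ⋃₀ T := ⟨t, htT, hxt⟩
        rw [← hUT] at this
        exact this.2
      have hm : (⟨x, hxY'⟩ : f ⁻¹' Y') ∈ (Y'.restrictPreimage f) ⁻¹' (Subtype.val ⁻¹' W₁) := hxW₁
      rw [heq] at hm
      exact hxW₂ hm
    intro U₁ U₂ h₁ h₂ heq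
    exact Subset.antisymm (key _ _ h₁ h₂ heq) (key _ _ h₂ h₁ heq.symm)

theorem LQC.of_isLocallyClosed {Z : Set Y} (hZ : IsLocallyClosed Z) : LQC Z := fun y =>
  ⟨univ, isOpen_univ, mem_univ y, {Z}, finite_singleton Z, by simpa using hZ, by simp⟩

theorem QH.restrictPreimage_of_isOpen {f : X → Y} (h : QH f) {Y' : Set Y} (hY' : IsOpen Y') :
    QH (Y'.restrictPreimage f) :=
  h.restrictPreimage (LQC.of_isLocallyClosed hY'.isLocallyClosed)

theorem QH.isCompact_iff_of_isOpen {f : X → Y} (h : QH f) {U : Set Y} (_hU : IsOpen U) :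
    IsCompact (f ⁻¹' U) ↔ IsCompact U := by
  constructor
  · intro hc
    rw [isCompact_iff_finite_subcover]
    intro ι V hV hUV
    have h1 : f ⁻¹' U ⊆ ⋃ i, f ⁻¹' (V i) := by
      rw [← preimage_iUnion]; exact preimage_mono hUV
    obtain ⟨t, ht⟩ := hc.elim_finite_subcover (fun i => f ⁻¹' (V i))
      (fun i => (hV i).preimage h.cont) h1
    refine ⟨t, ?_⟩
    rw [← preimage_iUnion₂] at ht
    exact (h.subset_iff _hU (isOpen_iUnion fun i => isOpen_iUnion fun _ => hV i)).mp ht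
  · intro hc
    rw [isCompact_iff_finite_subcover]
    intro ι V hV hUV
    choose W hW hWV using fun i => h.surj (V i) (hV i)
    have h1 : U ⊆ ⋃ i, W i := by
      rw [← h.subset_iff _hU (isOpen_iUnion hW), preimage_iUnion]
      simpa only [hWV] using hUV
    obtain ⟨t, ht⟩ := hc.elim_finite_subcover W hW h1
    refine ⟨t, ?_⟩
    have := preimage_mono (f := f) ht
    rw [preimage_iUnion₂] at this
    simpa only [hWV] using this

theorem QH.compactSpace_iff {f : X → Y} (h : QH f) : CompactSpace X ↔ CompactSpace Y := by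
  rw [← isCompact_univ_iff, ← isCompact_univ_iff, ← h.isCompact_iff_of_isOpen isOpen_univ,
    preimage_univ]

/-- the order isomorphism on opens -/
noncomputable def QH.opensIso {f : X → Y} (h : QH f) : Opens Y ≃o Opens X where
  toEquiv := Equiv.ofBijective (fun U => (⟨f ⁻¹' (U : Set Y), U.isOpen.preimage h.cont⟩ : Opens X))
    ⟨fun U₁ U₂ he => Opens.ext (h.inj _ _ U₁.isOpen U₂.isOpen
        (congrArg (fun U : Opens X => (U : Set X)) he)),
      fun V => by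
        obtain ⟨U, hU, hUV⟩ := h.surj V V.isOpen
        exact ⟨⟨U, hU⟩, Opens.ext hUV⟩⟩
  map_rel_iff' := by
    intro U₁ U₂
    exact h.subset_iff U₁.isOpen U₂.isOpen

theorem QH.noetherianSpace_iff {f : X → Y} (h : QH f) :
    NoetherianSpace X ↔ NoetherianSpace Y := by
  constructor
  · intro hw
    exact h.opensIso.toOrderEmbedding.wellFoundedGT
  · intro hw
    exact h.opensIso.symm.toOrderEmbedding.wellFoundedGT

theorem QH.isRetrocompact_iff {f : X → Y} (h : QH f) {U : Set Y} (hU : IsOpen U) :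
    IsRetrocompact (f ⁻¹' U) ↔ IsRetrocompact U := by
  constructor
  · intro hr W hWc hWo
    have := hr ((h.isCompact_iff_of_isOpen hWo).mpr hWc) (hWo.preimage h.cont)
    rw [← preimage_inter, h.isCompact_iff_of_isOpen (hU.inter hWo)] at this
    exact this
  · intro hr W hWc hWo
    obtain ⟨W', hW', rfl⟩ := h.surj W hWo
    rw [← preimage_inter, h.isCompact_iff_of_isOpen (hU.inter hW')]
    exact hr ((h.isCompact_iff_of_isOpen hW').mp hWc) hW'

theorem QH.isConstructible_preimage {f : X → Y} (h : QH f) {Z : Set Y} (hZ : IsConstructible Z) :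
    IsConstructible (f ⁻¹' Z) :=
  hZ.preimage h.cont (fun _ hs hs' => (h.isRetrocompact_iff hs).mpr hs')

theorem QH.exists_isConstructible {f : X → Y} (h : QH f) {Z : Set X} (hZ : IsConstructible Z) :
    ∃ Z' : Set Y, IsConstructible Z' ∧ f ⁻¹' Z' = Z := by
  induction hZ using IsConstructible.empty_union_induction with
  | open_retrocompact U hU hUr =>
    obtain ⟨U', hU', rfl⟩ := h.surj U hU
    exact ⟨U', ((h.isRetrocompact_iff hU').mp hUr).isConstructible hU', rfl⟩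
  | union s hs t ht hs' ht' =>
    obtain ⟨s', hs', rfl⟩ := hs'
    obtain ⟨t', ht', rfl⟩ := ht'
    exact ⟨s' ∪ t', hs'.union ht', rfl⟩
  | compl s hs hs' =>
    obtain ⟨s', hs', rfl⟩ := hs'
    exact ⟨s'ᶜ, isConstructible_compl.mpr hs', rfl⟩

/-- a constructible set is a finite union of locally closed sets -/
theorem exists_finite_of_isConstructible {Z : Set Y} (hZ : IsConstructible Z) :
    ∃ T : Set (Set Y), T.Finite ∧ (∀ t ∈ T, IsLocallyClosed t) ∧ Z = ⋃₀ T := by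
  have key : ∀ Z : Set Y, IsConstructible Z →
      (∃ T : Set (Set Y), T.Finite ∧ (∀ t ∈ T, IsLocallyClosed t) ∧ Z = ⋃₀ T) := by
    intro Z hZ
    refine BooleanSubalgebra.closure_sdiff_sup_induction (s := {U : Set Y | IsOpen U ∧ IsRetrocompact U})
      (p := fun Z _ => ∃ T : Set (Set Y), T.Finite ∧ (∀ t ∈ T, IsLocallyClosed t) ∧ Z = ⋃₀ T)
      ?_ ?_ ?_ ?_ ?_ Z hZ
    · constructor
      · rintro s ⟨hs, hs'⟩ t ⟨ht, ht'⟩
        exact ⟨hs.union ht, hs'.union ht'⟩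
      · rintro s ⟨hs, hs'⟩ t ⟨ht, ht'⟩
        exact ⟨hs.inter ht, hs'.inter_isOpen ht' ht⟩
    · exact ⟨isOpen_empty, IsRetrocompact.empty⟩
    · exact ⟨isOpen_univ, IsRetrocompact.univ⟩
    · rintro x hx y hy
      refine ⟨{x \ y}, finite_singleton _, ?_, by simp⟩
      intro t ht
      rw [mem_singleton_iff] at ht
      subst ht
      exact hx.1.isLocallyClosed.inter hy.1.isClosed_compl.isLocallyClosed
    · rintro x hx y hy ⟨T, hT, hTc, rfl⟩ ⟨T', hT', hTc', rfl⟩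
      refine ⟨T ∪ T', hT.union hT', ?_, (sUnion_union T T').symm⟩
      rintro t (ht | ht)
      · exact hTc t ht
      · exact hTc' t ht
  exact key Z hZ

theorem QH.eq_empty_of_isConstructible {f : X → Y} (h : QH f) {Z : Set Y}
    (hZ : IsConstructible Z) (he : f ⁻¹' Z = ∅) : Z = ∅ := by
  obtain ⟨T, hT, hTc, rfl⟩ := exists_finite_of_isConstructible hZ
  rw [sUnion_eq_empty]
  intro t ht
  apply h.eq_empty_of_isLocallyClosed (hTc t ht)
  rw [preimage_sUnion] at he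
  rw [← subset_empty_iff, ← he]
  exact subset_biUnion_of_mem (u := fun t => f ⁻¹' t) ht

theorem QH.isConstructible_inj {f : X → Y} (h : QH f) {Z₁ Z₂ : Set Y}
    (h₁ : IsConstructible Z₁) (h₂ : IsConstructible Z₂) (he : f ⁻¹' Z₁ = f ⁻¹' Z₂) : Z₁ = Z₂ := by
  have key : ∀ Z₁ Z₂ : Set Y, IsConstructible Z₁ → IsConstructible Z₂ → f ⁻¹' Z₁ = f ⁻¹' Z₂ →
      Z₁ ⊆ Z₂ := by
    intro Z₁ Z₂ h₁ h₂ he
    rw [← sdiff_eq_empty]
    apply h.eq_empty_of_isConstructible (h₁.sdiff h₂)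
    rw [preimage_sdiff, he, sdiff_self]
  exact Subset.antisymm (key _ _ h₁ h₂ he) (key _ _ h₂ h₁ he.symm)

theorem QH.isLocallyClosed_inj {f : X → Y} (h : QH f) {Z₁ Z₂ : Set Y}
    (h₁ : IsLocallyClosed Z₁) (h₂ : IsLocallyClosed Z₂) (he : f ⁻¹' Z₁ = f ⁻¹' Z₂) : Z₁ = Z₂ := by
  have key : ∀ Z₁ Z₂ : Set Y, IsLocallyClosed Z₁ → IsLocallyClosed Z₂ → f ⁻¹' Z₁ = f ⁻¹' Z₂ →
      Z₁ ⊆ Z₂ := by
    rintro Z₁ Z₂ h₁ ⟨U, C, hU, hC, rfl⟩ he
    rw [subset_inter_iff]
    constructor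
    · rw [← sdiff_eq_empty]
      apply h.eq_empty_of_isLocallyClosed (h₁.inter hU.isClosed_compl.isLocallyClosed)
      rw [preimage_inter, he]
      ext x
      simp only [preimage_inter, preimage_compl, mem_inter_iff, mem_preimage, mem_compl_iff,
        mem_empty_iff_false, iff_false]
      tauto
    · rw [← sdiff_eq_empty]
      apply h.eq_empty_of_isLocallyClosed (h₁.inter hC.isOpen_compl.isLocallyClosed)
      rw [preimage_inter, he]
      ext x
      simp only [preimage_inter, preimage_compl, mem_inter_iff, mem_preimage, mem_compl_iff,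
        mem_empty_iff_false, iff_false]
      tauto
  exact Subset.antisymm (key _ _ h₁ h₂ he) (key _ _ h₂ h₁ he.symm)

theorem QH.exists_isLocallyClosed {f : X → Y} (h : QH f) {Z : Set X} (hZ : IsLocallyClosed Z) :
    ∃ Z' : Set Y, IsLocallyClosed Z' ∧ f ⁻¹' Z' = Z := by
  obtain ⟨U, C, hU, hC, rfl⟩ := hZ
  obtain ⟨U', hU', rfl⟩ := h.surj U hU
  obtain ⟨C', hC', hCC'⟩ := h.surj Cᶜ hC.isOpen_compl
  refine ⟨U' ∩ C'ᶜ, hU'.isLocallyClosed.inter hC'.isClosed_compl.isLocallyClosed, ?_⟩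
  rw [preimage_inter, preimage_compl, hCC', compl_compl]

/-- constructibility on an open subset -/
theorem preimage_isConstructible_of_subset {U V : Set Y} (hU : IsOpen U) (hV : IsOpen V) (hVU : V ⊆ U)
    {C : Set Y} (hC : IsConstructible (Subtype.val ⁻¹' C : Set U)) :
    IsConstructible (Subtype.val ⁻¹' C : Set V) := by
  have : (Subtype.val ⁻¹' C : Set V) = (Set.inclusion hVU) ⁻¹' (Subtype.val ⁻¹' C : Set U) := rfl
  rw [this]
  apply hC.preimage_of_isOpenEmbedding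
  exact IsOpenEmbedding.of_comp _ hU.isOpenEmbedding_subtypeVal hV.isOpenEmbedding_subtypeVal


/-- injectivity of the preimage on sets which are constructible on an open subset -/
theorem QH.inter_eq_of_isConstructible {f : X → Y} (h : QH f) {U : Set Y} (hU : IsOpen U)
    {C₁ C₂ : Set Y} (h₁ : IsConstructible (Subtype.val ⁻¹' C₁ : Set U))
    (h₂ : IsConstructible (Subtype.val ⁻¹' C₂ : Set U))
    (he : f ⁻¹' (U ∩ C₁) = f ⁻¹' (U ∩ C₂)) : U ∩ C₁ = U ∩ C₂ := by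
  have h3 : (Subtype.val ⁻¹' C₁ : Set U) = (Subtype.val ⁻¹' C₂ : Set U) := by
    apply (h.restrictPreimage_of_isOpen hU).isConstructible_inj h₁ h₂
    ext ⟨x, hx⟩
    have : x ∈ f ⁻¹' (U ∩ C₁) ↔ x ∈ f ⁻¹' (U ∩ C₂) := by rw [he]
    simp only [mem_preimage, mem_inter_iff] at this hx ⊢
    constructor
    · intro hx'
      exact (this.mp ⟨hx, hx'⟩).2
    · intro hx'
      exact (this.mpr ⟨hx, hx'⟩).2
  ext y
  constructor
  · rintro ⟨hy, hy'⟩
    refine ⟨hy, ?_⟩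
    have : (⟨y, hy⟩ : U) ∈ (Subtype.val ⁻¹' C₁ : Set U) := hy'
    rw [h3] at this
    exact this
  · rintro ⟨hy, hy'⟩
    refine ⟨hy, ?_⟩
    have : (⟨y, hy⟩ : U) ∈ (Subtype.val ⁻¹' C₂ : Set U) := hy'
    rw [← h3] at this
    exact this

theorem QH.isLocallyConstructible_preimage {f : X → Y} (h : QH f) {Z : Set Y}
    (hZ : IsLocallyConstructible Z) : IsLocallyConstructible (f ⁻¹' Z) := by
  intro x
  obtain ⟨U, hUx, hU, hUZ⟩ := hZ (f x)
  have hxU : f x ∈ U := mem_of_mem_nhds hUx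
  refine ⟨f ⁻¹' U, (hU.preimage h.cont).mem_nhds hxU, hU.preimage h.cont, ?_⟩
  exact (h.restrictPreimage_of_isOpen hU).isConstructible_preimage hUZ

theorem QH.isLocallyConstructible_inj {f : X → Y} (h : QH f) {Z₁ Z₂ : Set Y}
    (h₁ : IsLocallyConstructible Z₁) (h₂ : IsLocallyConstructible Z₂)
    (he : f ⁻¹' Z₁ = f ⁻¹' Z₂) : Z₁ = Z₂ := by
  have key : ∀ y : Y, ∃ U : Set Y, y ∈ U ∧ U ∩ Z₁ = U ∩ Z₂ := by
    intro y
    obtain ⟨U₁, hUy₁, hU₁, hUZ₁⟩ := h₁ y
    obtain ⟨U₂, hUy₂, hU₂, hUZ₂⟩ := h₂ y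
    refine ⟨U₁ ∩ U₂, ⟨mem_of_mem_nhds hUy₁, mem_of_mem_nhds hUy₂⟩, ?_⟩
    apply h.inter_eq_of_isConstructible (hU₁.inter hU₂)
    · exact preimage_isConstructible_of_subset hU₁ (hU₁.inter hU₂) inter_subset_left hUZ₁
    · exact preimage_isConstructible_of_subset hU₂ (hU₁.inter hU₂) inter_subset_right hUZ₂
    · rw [preimage_inter (t := Z₁), preimage_inter (t := Z₂), he]
  ext y
  obtain ⟨U, hy, hU⟩ := key y
  constructor
  · intro hy'
    have : y ∈ U ∩ Z₁ := ⟨hy, hy'⟩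
    rw [hU] at this
    exact this.2
  · intro hy'
    have : y ∈ U ∩ Z₂ := ⟨hy, hy'⟩
    rw [← hU] at this
    exact this.2

theorem QH.exists_isLocallyConstructible {f : X → Y} (h : QH f) {Z : Set X}
    (hZ : IsLocallyConstructible Z) :
    ∃ Z' : Set Y, IsLocallyConstructible Z' ∧ f ⁻¹' Z' = Z := by
  have h1 : ∀ x : X, ∃ (U : Set Y) (C : Set Y), IsOpen U ∧ f x ∈ U ∧
      IsConstructible (Subtype.val ⁻¹' C : Set U) ∧ f ⁻¹' (U ∩ C) = f ⁻¹' U ∩ Z := by
    intro x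
    obtain ⟨V, hVx, hV, hVZ⟩ := hZ x
    obtain ⟨U, hU, rfl⟩ := h.surj V hV
    obtain ⟨C, hC, hCZ⟩ := (h.restrictPreimage_of_isOpen hU).exists_isConstructible hVZ
    have hxU : x ∈ f ⁻¹' U := mem_of_mem_nhds hVx
    refine ⟨U, Subtype.val '' C, hU, hxU, ?_, ?_⟩
    · rwa [preimage_image_eq _ Subtype.val_injective]
    · ext x'
      simp only [mem_preimage, mem_inter_iff, mem_image]
      constructor
      · rintro ⟨hx', y, hy, hyx⟩
        refine ⟨hx', ?_⟩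
        have : (⟨x', hx'⟩ : f ⁻¹' U) ∈ (U.restrictPreimage f) ⁻¹' C := by
          rw [mem_preimage]
          convert hy
          exact Subtype.ext hyx.symm
        rw [hCZ] at this
        exact this
      · rintro ⟨hx', hxZ⟩
        refine ⟨hx', U.restrictPreimage f ⟨x', hx'⟩, ?_, rfl⟩
        have : (⟨x', hx'⟩ : f ⁻¹' U) ∈ (Subtype.val ⁻¹' Z : Set (f ⁻¹' U)) := hxZ
        rw [← hCZ] at this
        exact this
  choose U C hU hxU hC hUC using h1
  have hcov : ⋃ x, U x = univ := by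
    apply h.inj _ _ (isOpen_iUnion hU) isOpen_univ
    rw [preimage_iUnion, preimage_univ, eq_univ_iff_forall]
    intro x
    exact mem_iUnion.mpr ⟨x, hxU x⟩
  have hcomp : ∀ x x' : X, (U x ∩ U x') ∩ C x = (U x ∩ U x') ∩ C x' := by
    intro x x'
    apply h.inter_eq_of_isConstructible ((hU x).inter (hU x'))
    · exact preimage_isConstructible_of_subset (hU x) ((hU x).inter (hU x')) inter_subset_left (hC x)
    · exact preimage_isConstructible_of_subset (hU x') ((hU x).inter (hU x')) inter_subset_right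
        (hC x')
    · have e1 := hUC x
      have e2 := hUC x'
      rw [preimage_inter] at e1 e2
      ext z
      have e1z : z ∈ f ⁻¹' U x ∩ f ⁻¹' C x ↔ z ∈ f ⁻¹' U x ∩ Z := by rw [e1]
      have e2z : z ∈ f ⁻¹' U x' ∩ f ⁻¹' C x' ↔ z ∈ f ⁻¹' U x' ∩ Z := by rw [e2]
      simp only [mem_inter_iff, mem_preimage] at e1z e2z ⊢
      tauto
  have hloc : ∀ x, U x ∩ (⋃ x', (U x' ∩ C x')) = U x ∩ C x := by
    intro x
    ext y
    simp only [mem_inter_iff, mem_iUnion]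
    constructor
    · rintro ⟨hy, x', hy', hyC⟩
      have : y ∈ (U x ∩ U x') ∩ C x' := ⟨⟨hy, hy'⟩, hyC⟩
      rw [← hcomp] at this
      exact ⟨hy, this.2⟩
    · rintro ⟨hy, hyC⟩
      exact ⟨hy, x, hy, hyC⟩
  refine ⟨⋃ x', (U x' ∩ C x'), ?_, ?_⟩
  · intro y
    have : y ∈ ⋃ x, U x := by rw [hcov]; exact mem_univ y
    obtain ⟨x, hx⟩ := mem_iUnion.mp this
    refine ⟨U x, (hU x).mem_nhds hx, hU x, ?_⟩
    convert hC x using 1
    ext ⟨z, hz⟩
    have : z ∈ U x ∩ (⋃ x', (U x' ∩ C x')) ↔ z ∈ U x ∩ C x := by rw [hloc]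
    simp only [mem_inter_iff, hz, true_and] at this
    exact this
  · ext x
    have : f x ∈ U x ∩ (⋃ x', (U x' ∩ C x')) ↔ f x ∈ U x ∩ C x := by rw [hloc]
    have h2 : x ∈ f ⁻¹' (U x ∩ C x) ↔ x ∈ f ⁻¹' U x ∩ Z := by rw [hUC]
    simp only [mem_inter_iff, hxU x, true_and, mem_preimage] at this h2 ⊢
    rw [this, h2]

/-- being a quasi-homeomorphism is local on the target -/
theorem QH.of_openCover {f : X → Y} (hf : Continuous f) {ι : Type*} (W : ι → Set Y)
    (hWo : ∀ i, IsOpen (W i)) (hWc : ⋃ i, W i = univ) (h : ∀ i, QH ((W i).restrictPreimage f)) :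
    QH f where
  cont := hf
  inj := by
    have key : ∀ U₁ U₂ : Set Y, IsOpen U₁ → IsOpen U₂ → f ⁻¹' U₁ = f ⁻¹' U₂ → U₁ ⊆ U₂ := by
      intro U₁ U₂ h₁ h₂ he y hy
      obtain ⟨i, hi⟩ := mem_iUnion.mp (hWc.symm ▸ mem_univ y : y ∈ ⋃ i, W i)
      have := (h i).inj (Subtype.val ⁻¹' U₁) (Subtype.val ⁻¹' U₂)
        (h₁.preimage continuous_subtype_val) (h₂.preimage continuous_subtype_val) (by
          ext ⟨x, hx⟩
          have : x ∈ f ⁻¹' U₁ ↔ x ∈ f ⁻¹' U₂ := by rw [he]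
          exact this)
      have hm : (⟨y, hi⟩ : W i) ∈ (Subtype.val ⁻¹' U₁ : Set (W i)) := hy
      rw [this] at hm
      exact hm
    intro U₁ U₂ h₁ h₂ he
    exact Subset.antisymm (key _ _ h₁ h₂ he) (key _ _ h₂ h₁ he.symm)
  surj := by
    intro V hV
    -- the union of all opens of `Y` whose preimage is contained in `V`
    refine ⟨⋃₀ {U | IsOpen U ∧ f ⁻¹' U ⊆ V}, isOpen_sUnion fun U hU => hU.1, ?_⟩
    apply Subset.antisymm
    · rw [preimage_sUnion]
      exact iUnion₂_subset fun U hU => hU.2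
    · intro x hx
      obtain ⟨i, hi⟩ := mem_iUnion.mp (hWc.symm ▸ mem_univ (f x) : f x ∈ ⋃ i, W i)
      obtain ⟨U, hU, hUV⟩ := (h i).surj (Subtype.val ⁻¹' V) (hV.preimage continuous_subtype_val)
      refine mem_sUnion.mpr ⟨Subtype.val '' U, ⟨(hWo i).isOpenMap_subtype_val U hU, ?_⟩, ?_⟩
      · rintro x' ⟨⟨y, hy⟩, hyU, rfl⟩
        have : (⟨x', hy⟩ : f ⁻¹' W i) ∈ ((W i).restrictPreimage f) ⁻¹' U := hyU
        rw [hUV] at this
        exact this
      · have : (⟨x, hi⟩ : f ⁻¹' W i) ∈ (Subtype.val ⁻¹' V : Set (f ⁻¹' W i)) := hx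
        rw [← hUV] at this
        exact ⟨_, this, rfl⟩

end K122.QuasiHomeo
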