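import Groth.Agent.EGA43.K122.RectDepth

/-!
# The rectified depth near a point
-/

set_option autoImplicit false
universe u
open CategoryTheory AlgebraicGeometry TopologicalSpace Topology

namespace K122.RectDepth2

theorem depth_top {X : Scheme.{u}} (F : X.Modules) (x : X) (hx : Subsingleton (F.presheaf.stalk x)) :
    LocCoh.depth ↑(X.presheaf.stalk x) ↑(F.presheaf.stalk x) = ⊤ :=
  Groth.Agent.Ega4A.DepthBasic.depth_of_subsingleton _

theorem dim_closure_nonneg {X : Type*} [TopologicalSpace X] (x : X) :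
    (0 : WithBot ℕ∞) ≤ topologicalKrullDim ↥(closure ({x} : Set X)) := by
  have : Nonempty ↥(closure ({x} : Set X)) := ⟨⟨x, subset_closure rfl⟩⟩
  exact K284.TopDim.dim_nonneg

theorem top_add {a : WithBot ℕ∞} (ha : 0 ≤ a) : (((⊤ : ℕ∞) : WithBot ℕ∞)) + a = ((⊤ : ℕ∞) : WithBot ℕ∞) := by
  induction a using WithBot.recBotCoe with
  | bot => simp at ha
  | coe a =>
    rw [← WithBot.coe_add, _root_.top_add]

theorem le_of_subsingleton {X : Scheme.{u}} (F : X.Modules) (x : X)
    (hx : Subsingleton (F.presheaf.stalk x)) (n : ℕ) :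
    (n : WithBot ℕ∞) ≤
      ((LocCoh.depth ↑(X.presheaf.stalk x) ↑(F.presheaf.stalk x) : ℕ∞) : WithBot ℕ∞) +
        topologicalKrullDim ↥(closure ({x} : Set X)) := by
  rw [depth_top F x hx, top_add (dim_closure_nonneg x)]
  exact le_top

/-- near `x`, the rectified depth is constant on the closure of `x` -/
theorem near {X S : Scheme.{u}} [IsLocallyNoetherian S] [JacobsonSpace S]
    (hreg : ∀ s : S, IsRegularLocalRing ↑(S.presheaf.stalk s))
    (h3 : ∀ S' ∈ irreducibleComponents (S : Type u), ∀ s ∈ S', IsClosed ({s} : Set S) →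
      topologicalKrullDim (↥S' : Type u) = topologicalKrullDim ↥{t : S | t ∈ S' ∧ t ⤳ s})
    (g : X ⟶ S) [LocallyOfFiniteType g] (F : X.Modules) (hF : Coh.IsCoh F) (x : X) :
    ∃ W : X.Opens, x ∈ W ∧ ∀ x' ∈ W, x' ∈ closure ({x} : Set X) → IsClosed ({x'} : Set X) →
      ((LocCoh.depth ↑(X.presheaf.stalk x') ↑(F.presheaf.stalk x') : ℕ∞) : WithBot ℕ∞) =
        ((LocCoh.depth ↑(X.presheaf.stalk x) ↑(F.presheaf.stalk x) : ℕ∞) : WithBot ℕ∞) +
        topologicalKrullDim ↥(closure ({x} : Set X)) := by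
  have hXN : IsLocallyNoetherian X := LocallyOfFiniteType.isLocallyNoetherian g
  have hcl : IsClosed (CohB1.support F) := Groth.Agent.S0020.result X F hF.2
  by_cases hne : Nontrivial (F.presheaf.stalk x)
  · obtain ⟨W, d₀, δ₀, hW, hxW, hd₀, hδ₀, H⟩ := K122.RectDepth.key hreg h3 g F hF x hne
    refine ⟨⟨W, hW⟩, hxW, ?_⟩
    intro x' hx'W hx' hx'c
    have hsp : x ⤳ x' := specializes_iff_mem_closure.mpr hx'
    have hnx' : Nontrivial (F.presheaf.stalk x') := by
      by_contra hcon
      have h4 : x' ∈ (CohB1.support F)ᶜ := fun h => h (not_nontrivial_iff_subsingleton.mp hcon)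
      have h5 := hsp.mem_open hcl.isOpen_compl h4
      exact h5 (not_subsingleton_iff_nontrivial.mpr hne)
    obtain ⟨d, δ, hd, hδ, -, heq⟩ := H x' hx'W hnx'
    have h6 := heq hsp
    have h7 : δ = 0 := by
      rw [hx'c.closure_eq] at hδ
      have h8 : topologicalKrullDim ↥({x'} : Set X) ≤ 0 := topologicalKrullDim_zero_of_discreteTopology _
      rw [hδ] at h8
      have h9 : δ ≤ 0 := by exact_mod_cast h8
      omega
    rw [hd, hd₀, hδ₀]
    have h10 : d = d₀ + δ₀ := by omega
    rw [h10]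
    push_cast
    rfl
  · refine ⟨⟨(CohB1.support F)ᶜ, hcl.isOpen_compl⟩,
      fun h => h (not_nontrivial_iff_subsingleton.mp hne), ?_⟩
    intro x' hx'W hx' hx'c
    rw [depth_top F x (not_nontrivial_iff_subsingleton.mp hne), top_add (dim_closure_nonneg x),
      depth_top F x' (not_not.mp hx'W)]

end K122.RectDepth2
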