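import Groth.Agent.CycB.StalkLen
import Groth.Agent.S0020
import Groth.Agent.Sga2lef.H84.PunctDim

/-!
# The dimension of the support of a stalk, as a topological dimension
-/

set_option autoImplicit false
universe u
open CategoryTheory AlgebraicGeometry TopologicalSpace Topology

namespace K122.SuppDim

open Groth.Agent.CycB Groth.Agent.CycB.LocQuot

variable {X : Scheme.{u}}

/-- `t ∈ support M` iff the corresponding prime of `O_{X,x}` is in the support of `M_x` -/
theorem mem_support_iff (M : X.Modules) (hM : Coh.IsQCoh M) (x : X)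
    (P : PrimeSpectrum (X.presheaf.stalk x)) :
    P ∈ Module.support (X.presheaf.stalk x) (M.presheaf.stalk x) ↔
      X.fromSpecStalk x P ∈ CohB1.support M := by
  have h := StalkLen.mem_support_stalk_iff M hM (fromSpecStalk_specializes P)
  rw [primeOf_fromSpecStalk] at h
  rw [h]
  exact not_subsingleton_iff_nontrivial.symm

theorem supportDim_stalk_eq (M : X.Modules) (hM : Coh.IsCoh M) (x : X) :
    Module.supportDim (X.presheaf.stalk x) (M.presheaf.stalk x) =
      topologicalKrullDim ↥{t : X | t ∈ CohB1.support M ∧ t ⤳ x} := by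
  have hcl : IsClosed (CohB1.support M) := Groth.Agent.S0020.result X M hM.2
  let A : Set (PrimeSpectrum (X.presheaf.stalk x)) :=
    Module.support (X.presheaf.stalk x) (M.presheaf.stalk x)
  have hA : A = X.fromSpecStalk x ⁻¹' (CohB1.support M) := by
    ext P
    exact mem_support_iff M hM.1 x P
  have hAc : IsClosed A := by
    rw [hA]
    exact hcl.preimage (X.fromSpecStalk x).continuous
  have : QuasiSober ↥A := hAc.isClosedEmbedding_subtypeVal.quasiSober
  have h1 := Groth.Agent.Sga2lef.H84.PunctDim.topologicalKrullDim_eq_of_isEmbedding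
    (Subtype.val : ↥A → PrimeSpectrum (X.presheaf.stalk x)) IsEmbedding.subtypeVal
  rw [Subtype.range_val] at h1
  have h2 : Module.supportDim (X.presheaf.stalk x) (M.presheaf.stalk x) = topologicalKrullDim ↥A := h1.symm
  rw [h2]
  let g : ↥A → X := fun P => X.fromSpecStalk x P.1
  have hg : IsEmbedding g := (X.fromSpecStalk x).isEmbedding.comp IsEmbedding.subtypeVal
  have hr : Set.range g = {t : X | t ∈ CohB1.support M ∧ t ⤳ x} := by
    ext t
    constructor
    · rintro ⟨P, rfl⟩
      exact ⟨(mem_support_iff M hM.1 x P.1).mp P.2, fromSpecStalk_specializes _⟩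
    · rintro ⟨ht, htx⟩
      refine ⟨⟨primeOf htx, ?_⟩, fromSpecStalk_primeOf htx⟩
      refine (mem_support_iff M hM.1 x _).mpr ?_
      rw [fromSpecStalk_primeOf htx]
      exact ht
  rw [← hr]
  exact IsHomeomorph.topologicalKrullDim_eq _ hg.toHomeomorph.isHomeomorph

end K122.SuppDim
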