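import Groth.Agent.UnramB.WeakAssTensor
import Groth.Agent.FlatMor.K256.RelAssX
import Groth.Agent.Flat2B.FlatLocusAux
import Groth.Agent.Fdesc.AssPoints
import Groth.Agent.Desc.FPSections
import Mathlib.AlgebraicGeometry.Morphisms.FinitePresentation

/-!
# Sections of a flat finitely presented module vanish when they vanish near the relative associated points

* `exists_fiberAss`: `A → B` of finite presentation, `N` a finitely presented `B`-module flat over `A`, `m ≠ 0` in `N`:
  some prime `q ⊇ Ann m` of `B` is associated to the fibre module of `N` over `q ∩ A`.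
* `eq_zero_of_relAss`: `f : X ⟶ S` locally of finite presentation, `F` finitely presented and flat over `S`, `U` an open
  containing the relative assassin; a section of `F` over `V` vanishing on `V ∩ U` is zero.
-/

set_option autoImplicit false
universe u

open CategoryTheory CategoryTheory.Limits AlgebraicGeometry Opposite TopologicalSpace TensorProduct

namespace K122.WeakRelAss

open Groth.Agent Groth.Agent.Fdesc.QCohStalk Groth.Agent.Fdesc.AssPoints Scheme.Modules

theorem exists_fiberAss {A B : Type u} [CommRing A] [CommRing B] [Algebra A B] [Algebra.FinitePresentation A B]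
    (N : Type u) [AddCommGroup N] [Module B N] [Module A N] [IsScalarTower A B N]
    [Module.FinitePresentation B N] [Module.Flat A N] (m : N) (hm : m ≠ 0) :
    ∃ (q : Ideal B) (_ : q.IsPrime), (∀ b : B, b • m = 0 → b ∈ q) ∧
      ∀ (p : Ideal A) [p.IsPrime] [q.LiesOver p], q ∈ associatedPrimes B (FlatCA.fiberMod p B N) := by
  let e : N ⊗[A] A ≃ₗ[B] N := TensorProduct.AlgebraTensorModule.rid A B N
  let m' : N ⊗[A] A := e.symm m
  have hm' : m' ≠ 0 := fun h => hm (by simpa [m'] using congrArg e h)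
  have hne : (Submodule.span B {m'}).annihilator ≠ ⊤ := by
    intro h
    apply hm'
    have h1 : (1 : B) ∈ (Submodule.span B {m'}).annihilator := by rw [h]; trivial
    rw [Submodule.mem_annihilator_span_singleton] at h1
    simpa using h1
  obtain ⟨q, hq⟩ := Ideal.nonempty_minimalPrimes hne
  have hqp : q.IsPrime := hq.1.1
  refine ⟨q, hqp, fun b hb => hq.1.2 ?_, fun p _ _ => ?_⟩
  · rw [Submodule.mem_annihilator_span_singleton]
    change b • e.symm m = 0
    rw [← _root_.map_smul, hb, map_zero]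
  · have h1 : q ∈ FlatCA.weakAss B (N ⊗[A] A) := ⟨m', hq⟩
    have h2 := (UnramB.WeakAssTensor.mem_weakAss_tensor_iff N A p q
      (Flat2B.FlatLocusAux.flatAt_of_flat q N)).1 h1
    exact (Flat2A.FiberAss.mem_associatedPrimes_fiberMod_iff _ _ _).2 ⟨hqp, inferInstance, h2.2⟩

theorem eq_zero_of_relAss {X S : Scheme.{u}} (f : X ⟶ S) [LocallyOfFinitePresentation f]
    (F : X.Modules) (hq : Coh.IsQCoh F) (hfp : CohB1.IsFP F) (hfl : FlatMod.IsFlatOver f F)
    (U : X.Opens) (h : ∀ x ∈ MoreMor.relAss f F, x ∈ U) (V : X.Opens) (s : Γ(F, V))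
    (hs : F.presheaf.map (homOfLE (inf_le_left : V ⊓ U ≤ V)).op s = 0) : s = 0 := by
  refine TopCat.Presheaf.section_ext ⟨F.presheaf, F.isSheaf⟩ V _ _ fun x hx => ?_
  change F.presheaf.germ _ x _ s = F.presheaf.germ _ x _ 0
  rw [map_zero]
  obtain ⟨T, hT, hxT, -⟩ := exists_isAffineOpen_mem_and_subset (x := f x) (U := ⊤) trivial
  obtain ⟨W, hW, hxW, hWV⟩ := exists_isAffineOpen_mem_and_subset (x := x) (U := V ⊓ f ⁻¹ᵁ T) ⟨hx, hxT⟩
  have e : W ≤ f ⁻¹ᵁ T := fun y hy => (hWV hy).2
  have e' : W ≤ V := fun y hy => (hWV hy).1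
  rw [← germ_map F e' x hxW s]
  suffices hz : F.presheaf.map (homOfLE e').op s = 0 by rw [hz, map_zero]
  by_contra hne
  let i1 : Algebra Γ(S, T) Γ(X, W) := Flat2C.FlatSec.algebraOver f e
  let i2 : Module Γ(S, T) Γ(F, W) := Flat2C.FlatSec.moduleOver f F e
  have i3 : IsScalarTower Γ(S, T) Γ(X, W) Γ(F, W) := Flat2C.FlatSec.isScalarTower_over f F e
  have i4 : Algebra.FinitePresentation Γ(S, T) Γ(X, W) := f.finitePresentation_appLE hT hW e
  have i5 : Module.FinitePresentation Γ(X, W) Γ(F, W) :=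
    Desc.FPSections.finitePresentation_sections hW hq hfp
  have i6 : Module.Flat Γ(S, T) Γ(F, W) :=
    (Flat2C.FlatSec.flat_sections_iff f F hW hT e hq).2 fun x _ => hfl x
  let s' : Γ(F, W) := F.presheaf.map (homOfLE e').op s
  obtain ⟨q, hqp, hann, hass⟩ := exists_fiberAss (A := Γ(S, T)) (B := Γ(X, W)) Γ(F, W) s' hne
  obtain ⟨y, hy, hyq⟩ := exists_primeIdealOf_eq hW q
  have hra : y ∈ MoreMor.relAss f F := by
    rw [K256.RelAssX.mem_relAss_iff f F hW hT e hq y hy]
    have hl := K256.RelAssX.liesOver f hW hT e y hy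
    subst hyq
    exact hass _
  have hyU : y ∈ U := h y hra
  have h0 : F.presheaf.germ W y hy s' = 0 := by
    change F.presheaf.germ W y hy (F.presheaf.map (homOfLE e').op s) = 0
    rw [germ_map F e' y hy s, ← germ_map F (inf_le_left : V ⊓ U ≤ V) y ⟨e' hy, hyU⟩ s, hs, map_zero]
  obtain ⟨g, hg, hgs⟩ := exists_smul_eq_zero_of_germ_eq_zero F hW hq y hy s' h0
  have hgp : g ∉ q := by
    rw [← hyq]
    exact (mem_basicOpen_iff hW y hy g).mp hg
  exact hgp (hann g hgs)

end K122.WeakRelAss
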